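import Groth.Agent.GrpdEtQuot.Core
import Groth.Agent.Hensel.Henselization
import Mathlib.RingTheory.RingHom.Etale
import Mathlib.RingTheory.RingHom.Finite
import Mathlib.RingTheory.TensorProduct.Nontrivial
import Mathlib.RingTheory.LocalRing.ResidueField.Ideal
import Mathlib.RingTheory.Flat.Equalizer

/-!
# Passage to a strict henselization of the invariants
-/

set_option autoImplicit false

universe u

open TensorProduct IsLocalRing

namespace Groth.Agent.GrpdEtQuot

variable {K : Type u} [CommRing K] (R : Type u) [CommRing R] [Algebra K R]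

/-- The base change of an algebra map. -/
noncomputable abbrev tR {M N : Type u} [CommRing M] [CommRing N] [Algebra K M] [Algebra K N] (f : M →ₐ[K] N) :
    R ⊗[K] M →ₐ[R] R ⊗[K] N :=
  Algebra.TensorProduct.map (AlgHom.id R R) f

/-- Restriction to the right factor. -/
noncomputable abbrev res {M : Type u} [CommRing M] [Algebra K M] {T : Type u} [CommRing T] [Algebra K T] [Algebra R T]
    [IsScalarTower K R T] (χ : R ⊗[K] M →ₐ[R] T) : M →ₐ[K] T :=
  (χ.restrictScalars K).comp Algebra.TensorProduct.includeRight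

theorem res_comp {M N : Type u} [CommRing M] [CommRing N] [Algebra K M] [Algebra K N] (f : M →ₐ[K] N)
    {T : Type u} [CommRing T] [Algebra K T] [Algebra R T] [IsScalarTower K R T] (χ : R ⊗[K] N →ₐ[R] T) :
    res R (χ.comp (tR R f)) = (res R χ).comp f :=
  AlgHom.ext fun m => by simp [res, tR]

theorem res_injective {M : Type u} [CommRing M] [Algebra K M] {T : Type u} [CommRing T] [Algebra K T] [Algebra R T]
    [IsScalarTower K R T] {χ χ' : R ⊗[K] M →ₐ[R] T} (h : res R χ = res R χ') : χ = χ' :=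
  Algebra.TensorProduct.ext (AlgHom.ext fun r => by
    show χ (r ⊗ₜ[K] 1) = χ' (r ⊗ₜ[K] 1)
    exact (χ.commutes r).trans (χ'.commutes r).symm) h

theorem exists_res_eq {M : Type u} [CommRing M] [Algebra K M] {T : Type u} [CommRing T] [Algebra K T] [Algebra R T]
    [IsScalarTower K R T] (φ : M →ₐ[K] T) : ∃ χ : R ⊗[K] M →ₐ[R] T, res R χ = φ :=
  ⟨Algebra.TensorProduct.lift (Algebra.ofId R T) φ fun _ _ => Commute.all _ _, AlgHom.ext fun m => by simp [res]⟩

theorem IsPO.bc {X Y X' Y' : Type u} [CommRing X] [CommRing Y] [CommRing X'] [CommRing Y'] [Algebra K X] [Algebra K Y]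
    [Algebra K X'] [Algebra K Y'] {i : X →ₐ[K] Y} {j : X →ₐ[K] X'} {i' : X' →ₐ[K] Y'} {j' : Y →ₐ[K] Y'}
    (h : IsPO i j i' j') : IsPO (tR R i) (tR R j) (tR R i') (tR R j') where
  comm := res_injective R (AlgHom.ext fun x => by
    simp [res, tR, show j' (i x) = i' (j x) from AlgHom.congr_fun h.comm x])
  desc T _ _ φ ψ e := by
    let : Algebra K T := Algebra.compHom T (algebraMap K R)
    haveI : IsScalarTower K R T := IsScalarTower.of_algebraMap_eq' rfl
    obtain ⟨χ, h1, h2⟩ := h.desc T (res R φ) (res R ψ) (by rw [← res_comp, ← res_comp, e])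
    obtain ⟨χ', rfl⟩ := exists_res_eq R χ
    exact ⟨χ', res_injective R ((res_comp R j' χ').trans h1), res_injective R ((res_comp R i' χ').trans h2)⟩
  ext T _ _ χ χ' e1 e2 := by
    let : Algebra K T := Algebra.compHom T (algebraMap K R)
    haveI : IsScalarTower K R T := IsScalarTower.of_algebraMap_eq' rfl
    exact res_injective R (h.ext T _ _ (by rw [← res_comp, e1, res_comp]) (by rw [← res_comp, e2, res_comp]))

theorem isStableUnderBaseChange_tR {P : ∀ {R S : Type u} [CommRing R] [CommRing S], (R →+* S) → Prop}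
    (hP : RingHom.IsStableUnderBaseChange P) {M N : Type u} [CommRing M] [CommRing N] [Algebra K M] [Algebra K N]
    (f : M →ₐ[K] N) (hf : P f.toRingHom) : P (tR R f).toRingHom := by
  let := f.toRingHom.toAlgebra
  haveI : IsScalarTower K M N := IsScalarTower.of_algebraMap_eq fun c => (f.commutes c).symm
  let := (tR R f).toRingHom.toAlgebra
  let : Algebra M (R ⊗[K] M) := Algebra.TensorProduct.rightAlgebra
  let : Algebra N (R ⊗[K] N) := Algebra.TensorProduct.rightAlgebra
  let : Algebra M (R ⊗[K] N) := ((algebraMap N (R ⊗[K] N)).comp (algebraMap M N)).toAlgebra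
  haveI : IsScalarTower M N (R ⊗[K] N) := IsScalarTower.of_algebraMap_eq' rfl
  haveI : IsScalarTower M (R ⊗[K] M) (R ⊗[K] N) := IsScalarTower.of_algebraMap_eq fun m => by
    show (1 : R) ⊗ₜ[K] f m = tR R f ((1 : R) ⊗ₜ[K] m)
    simp [tR]
  haveI : Algebra.IsPushout M N (R ⊗[K] M) (R ⊗[K] N) := by
    haveI : IsScalarTower K (R ⊗[K] M) (R ⊗[K] N) := IsScalarTower.of_algebraMap_eq fun c => by
      show algebraMap K (R ⊗[K] N) c = tR R f (algebraMap K (R ⊗[K] M) c)
      rw [IsScalarTower.algebraMap_apply K R (R ⊗[K] M), AlgHom.commutes,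
        IsScalarTower.algebraMap_apply K R (R ⊗[K] N)]
    haveI : IsScalarTower R (R ⊗[K] M) (R ⊗[K] N) := IsScalarTower.of_algebraMap_eq fun c =>
      ((tR R f).commutes c).symm
    haveI : IsScalarTower K M (R ⊗[K] N) := IsScalarTower.of_algebraMap_eq fun c => by
      show _ = (1 : R) ⊗ₜ[K] f (algebraMap K M c)
      rw [f.commutes, Algebra.algebraMap_eq_smul_one, Algebra.algebraMap_eq_smul_one, tmul_smul]
      rfl
    haveI : IsScalarTower K M (R ⊗[K] M) := Algebra.TensorProduct.right_isScalarTower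
    haveI : IsScalarTower K N (R ⊗[K] N) := Algebra.TensorProduct.right_isScalarTower
    haveI : Algebra.IsPushout K M R (R ⊗[K] M) := Algebra.IsPushout.symm inferInstance
    haveI : Algebra.IsPushout K N R (R ⊗[K] N) := Algebra.IsPushout.symm inferInstance
    exact (Algebra.IsPushout.comp_iff (R := K) (S := M) (R' := R) (S' := R ⊗[K] M) (T := N)).mp inferInstance
  exact hP M N (R ⊗[K] M) (R ⊗[K] N) hf

/-- The setup over an algebra over the base. -/
noncomputable abbrev Setup.bc (S : Setup K) : Setup R where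
  A := R ⊗[K] S.A
  B := R ⊗[K] S.B
  A' := R ⊗[K] S.A'
  B' := R ⊗[K] S.B'
  s := tR R S.s
  t := tR R S.t
  s' := tR R S.s'
  t' := tR R S.t'
  f := tR R S.f
  fR := tR R S.fR
  hs := S.hs.bc R
  ht := S.ht.bc R
  integral := by
    haveI := S.integral
    infer_instance
  finite := isStableUnderBaseChange_tR R RingHom.finite_isStableUnderBaseChange S.s S.finite
  etale := isStableUnderBaseChange_tR R RingHom.Etale.isStableUnderBaseChange S.f S.etale
  conn Ω _ _ _ x y := by
    let : Algebra K Ω := Algebra.compHom Ω (algebraMap K R)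
    haveI : IsScalarTower K R Ω := IsScalarTower.of_algebraMap_eq' rfl
    obtain ⟨β, h1, h2⟩ := S.conn Ω (res R x) (res R y)
    obtain ⟨β', rfl⟩ := exists_res_eq R β
    exact ⟨β', res_injective R ((res_comp R _ β').trans h1), res_injective R ((res_comp R _ β').trans h2)⟩
  idPt Ω _ _ x' := by
    let : Algebra K Ω := Algebra.compHom Ω (algebraMap K R)
    haveI : IsScalarTower K R Ω := IsScalarTower.of_algebraMap_eq' rfl
    obtain ⟨β, h1, h2⟩ := S.idPt Ω (res R x')
    obtain ⟨β', rfl⟩ := exists_res_eq R β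
    exact ⟨β', res_injective R ((res_comp R _ β').trans h1), res_injective R ((res_comp R _ β').trans h2)⟩
  invPt Ω _ _ χ := by
    let : Algebra K Ω := Algebra.compHom Ω (algebraMap K R)
    haveI : IsScalarTower K R Ω := IsScalarTower.of_algebraMap_eq' rfl
    obtain ⟨β, h1, h2⟩ := S.invPt Ω (res R χ)
    obtain ⟨β', rfl⟩ := exists_res_eq R β
    exact ⟨β', res_injective R (by rw [res_comp, res_comp]; exact h1),
      res_injective R (by rw [res_comp, res_comp]; exact h2)⟩
  compPt Ω _ _ χ₁ χ₂ h := by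
    let : Algebra K Ω := Algebra.compHom Ω (algebraMap K R)
    haveI : IsScalarTower K R Ω := IsScalarTower.of_algebraMap_eq' rfl
    obtain ⟨β, h1, h2⟩ := S.compPt Ω (res R χ₁) (res R χ₂) (by rw [← res_comp, ← res_comp, h])
    obtain ⟨β', rfl⟩ := exists_res_eq R β
    exact ⟨β', res_injective R (by rw [res_comp, res_comp]; exact h1),
      res_injective R (by rw [res_comp, res_comp]; exact h2)⟩
  stab Ω _ _ _ χ₁ χ₂ h1 h2 := by
    let : Algebra K Ω := Algebra.compHom Ω (algebraMap K R)
    haveI : IsScalarTower K R Ω := IsScalarTower.of_algebraMap_eq' rfl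
    refine res_injective R ?_
    rw [res_comp, res_comp]
    refine S.stab Ω _ _ (by rw [← res_comp, ← res_comp, h1]) ?_
    rw [← res_comp, ← res_comp, ← res_comp, ← res_comp, h2]

theorem exists_preimage_of_map_eq [Module.Flat K R] {X Y : Type u} [CommRing X] [CommRing Y] [Algebra K X]
    [Algebra K Y] (f g : X →ₐ[K] Y) (z : R ⊗[K] X) (h : tR R f z = tR R g z) :
    ∃ w : R ⊗[K] (AlgHom.equalizer f g), tR R (AlgHom.equalizer f g).val w = z := by
  let L : X →ₗ[K] Y := f.toLinearMap - g.toLinearMap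
  have hex : Function.Exact (AlgHom.equalizer f g).val.toLinearMap L := fun x =>
    ⟨fun hx => ⟨⟨x, sub_eq_zero.1 hx⟩, rfl⟩, fun ⟨w, hw⟩ => hw ▸ sub_eq_zero.2 w.2⟩
  have e : ∀ {X Y : Type u} [CommRing X] [CommRing Y] [Algebra K X] [Algebra K Y] (φ : X →ₐ[K] Y) (v : R ⊗[K] X),
      φ.toLinearMap.lTensor R v = tR R φ v := by
    intro X Y _ _ _ _ φ v
    induction v using TensorProduct.induction_on with
    | zero => simp
    | tmul r x => simp [tR]
    | add a b ha hb => rw [map_add, map_add, ha, hb]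
  obtain ⟨w, hw⟩ := ((Module.Flat.lTensor_exact R hex) z).1 (by
    rw [LinearMap.lTensor_sub, LinearMap.sub_apply, e, e, h, sub_self])
  exact ⟨w, (e _ w).symm.trans hw⟩

theorem tR_injective [Module.Flat K R] {X Y : Type u} [CommRing X] [CommRing Y] [Algebra K X] [Algebra K Y]
    (φ : X →ₐ[K] Y) (hφ : Function.Injective φ) : Function.Injective (tR R φ) := by
  have h := Module.Flat.lTensor_preserves_injective_linearMap (M := R) φ.toLinearMap hφ
  intro a b hab
  refine h ?_
  have e : ∀ v : R ⊗[K] X, φ.toLinearMap.lTensor R v = tR R φ v := by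
    intro v
    induction v using TensorProduct.induction_on with
    | zero => simp
    | tmul r x => simp [tR]
    | add a b ha hb => rw [map_add, map_add, ha, hb]
  rw [e, e, hab]

/-- Primes of a tensor product over two compatible primes. -/
theorem exists_prime_over (p : Ideal R) [p.IsPrime] {X : Type u} [CommRing X] [Algebra K X] (Q : Ideal X) [Q.IsPrime]
    (h : p.comap (algebraMap K R) = Q.comap (algebraMap K X)) :
    ∃ r : Ideal (R ⊗[K] X), r.IsPrime ∧ r.comap (algebraMap R (R ⊗[K] X)) = p ∧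
      r.comap (Algebra.TensorProduct.includeRight (R := K) (A := R) (B := X)).toRingHom = Q := by
  let P := Q.comap (algebraMap K X)
  haveI : P.IsPrime := Ideal.IsPrime.comap _
  let F := P.ResidueField
  let K₁ := p.ResidueField
  let K₂ := Q.ResidueField
  let _ : Algebra F K₁ := (Ideal.ResidueField.map P p (algebraMap K R) h.symm).toAlgebra
  let _ : Algebra F K₂ := (Ideal.ResidueField.map P Q (algebraMap K X) rfl).toAlgebra
  haveI : IsScalarTower K F K₁ := IsScalarTower.of_algebraMap_eq fun r => by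
    rw [IsScalarTower.algebraMap_apply K R K₁]
    exact (Ideal.ResidueField.map_algebraMap P p (algebraMap K R) h.symm r).symm
  haveI : IsScalarTower K F K₂ := IsScalarTower.of_algebraMap_eq fun r => by
    rw [IsScalarTower.algebraMap_apply K X K₂]
    exact (Ideal.ResidueField.map_algebraMap P Q (algebraMap K X) rfl r).symm
  haveI : Nontrivial (K₁ ⊗[F] K₂) :=
    Algebra.TensorProduct.nontrivial_of_algebraMap_injective_of_isDomain F _ _
      (algebraMap F K₁).injective (algebraMap F K₂).injective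
  let g₁ : R →ₐ[K] K₁ ⊗[F] K₂ := ((Algebra.TensorProduct.includeLeft : K₁ →ₐ[F] K₁ ⊗[F] K₂).restrictScalars K).comp
    (IsScalarTower.toAlgHom K R K₁)
  let g₂ : X →ₐ[K] K₁ ⊗[F] K₂ := ((Algebra.TensorProduct.includeRight : K₂ →ₐ[F] K₁ ⊗[F] K₂).restrictScalars K).comp
    (IsScalarTower.toAlgHom K X K₂)
  let χ : R ⊗[K] X →ₐ[K] K₁ ⊗[F] K₂ := Algebra.TensorProduct.lift g₁ g₂ fun _ _ => .all _ _
  obtain ⟨m, hm⟩ := Ideal.exists_maximal (K₁ ⊗[F] K₂)
  have key : ∀ {Z : Type u} [Field Z] (ψ : Z →+* K₁ ⊗[F] K₂) (z : Z), ψ z ∈ m ↔ z = 0 := fun ψ z =>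
    ⟨fun hz => by_contra fun hne => hm.ne_top (m.eq_top_of_isUnit_mem hz ((isUnit_iff_ne_zero.2 hne).map ψ)),
      fun hz => by rw [hz, map_zero]; exact m.zero_mem⟩
  refine ⟨m.comap χ.toRingHom, inferInstance, ?_, ?_⟩
  · ext r
    show χ (r ⊗ₜ[K] 1) ∈ m ↔ r ∈ p
    rw [Algebra.TensorProduct.lift_tmul, map_one, mul_one]
    exact (key (Algebra.TensorProduct.includeLeft : K₁ →ₐ[F] K₁ ⊗[F] K₂).toRingHom _).trans
      Ideal.algebraMap_residueField_eq_zero
  · ext r
    show χ ((1 : R) ⊗ₜ[K] r) ∈ m ↔ r ∈ Q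
    rw [Algebra.TensorProduct.lift_tmul, map_one, one_mul]
    exact (key (Algebra.TensorProduct.includeRight : K₂ →ₐ[F] K₁ ⊗[F] K₂).toRingHom _).trans
      Ideal.algebraMap_residueField_eq_zero

/-- The strict henselization at a prime. -/
theorem exists_strictHenz (q : Ideal K) [q.IsPrime] :
    ∃ (R : Type u) (_ : CommRing R) (_ : Algebra K R) (_ : HenselianLocalRing R), Module.Flat K R ∧
      (maximalIdeal R).comap (algebraMap K R) = q ∧ IsSepClosed (ResidueField R) := by
  let L := Localization.AtPrime q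
  let Rh := Hensel.StrictHenz L
  let : Algebra K Rh := ((algebraMap L Rh).comp (algebraMap K L)).toAlgebra
  haveI : IsScalarTower K L Rh := IsScalarTower.of_algebraMap_eq' rfl
  refine ⟨Rh, inferInstance, inferInstance, inferInstance, ?_, ?_, ?_⟩
  · haveI : Module.Flat K L := IsLocalization.flat L q.primeCompl
    exact Module.Flat.trans K L Rh
  · rw [IsScalarTower.algebraMap_eq K L Rh, ← Ideal.comap_comap,
      show (maximalIdeal Rh).comap (algebraMap L Rh) = maximalIdeal L from by
        have h : IsLocalHom (algebraMap L Rh) := inferInstance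
        exact ((local_hom_TFAE (algebraMap L Rh)).out 0 4).1 h]
    exact Localization.AtPrime.under_maximalIdeal
  · exact IsSepClosure.sep_closed (ResidueField L)

end Groth.Agent.GrpdEtQuot
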