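import Mathlib.Algebra.Category.Ring.Constructions
import Mathlib.FieldTheory.IsSepClosed
import Mathlib.FieldTheory.PurelyInseparable.Basic
import Mathlib.LinearAlgebra.FreeModule.Finite.Matrix
import Mathlib.RingTheory.Etale.Basic
import Mathlib.RingTheory.Unramified.Field
import Mathlib.RingTheory.Ideal.IdempotentFG
import Mathlib.RingTheory.FinitePresentation
import Mathlib.RingTheory.Jacobson.Ring
import Mathlib.RingTheory.LocalRing.ResidueField.Basic

/-!
# Geometric points over a strictly henselian local ring, sections of unramified algebras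
-/

set_option autoImplicit false

universe u

namespace Groth.Agent.GrpdEtQuot

open IsLocalRing

/-- A square of algebra maps with the universal property of a pushout. -/
structure IsPO {H X Y X' Y' : Type u} [CommRing H] [CommRing X] [CommRing Y] [CommRing X'] [CommRing Y']
    [Algebra H X] [Algebra H Y] [Algebra H X'] [Algebra H Y']
    (i : X →ₐ[H] Y) (j : X →ₐ[H] X') (i' : X' →ₐ[H] Y') (j' : Y →ₐ[H] Y') : Prop where
  comm : j'.comp i = i'.comp j
  desc : ∀ (T : Type u) [CommRing T] [Algebra H T] (φ : Y →ₐ[H] T) (ψ : X' →ₐ[H] T), φ.comp i = ψ.comp j →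
    ∃ χ : Y' →ₐ[H] T, χ.comp j' = φ ∧ χ.comp i' = ψ
  ext : ∀ (T : Type u) [CommRing T] [Algebra H T] (χ χ' : Y' →ₐ[H] T),
    χ.comp j' = χ'.comp j' → χ.comp i' = χ'.comp i' → χ = χ'

theorem IsPO.of_isPushout {H X Y X' Y' : Type u} [CommRing H] [CommRing X] [CommRing Y] [CommRing X'] [CommRing Y']
    [Algebra H X] [Algebra H Y] [Algebra H X'] [Algebra H Y']
    (i : X →ₐ[H] Y) (j : X →ₐ[H] X') (i' : X' →ₐ[H] Y') (j' : Y →ₐ[H] Y')
    (h : CategoryTheory.IsPushout (CommRingCat.ofHom i.toRingHom) (CommRingCat.ofHom j.toRingHom)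
      (CommRingCat.ofHom j'.toRingHom) (CommRingCat.ofHom i'.toRingHom)) : IsPO i j i' j' where
  comm := AlgHom.ext fun x => congrArg (fun φ => φ.hom x) h.w
  desc T _ _ φ ψ e := by
    obtain ⟨χ, e1, e2⟩ := h.exists_desc (CommRingCat.ofHom φ.toRingHom) (CommRingCat.ofHom ψ.toRingHom)
      (CommRingCat.hom_ext (RingHom.ext fun x => AlgHom.congr_fun e x))
    have h1 : ∀ y, χ.hom (j' y) = φ y := fun y => congrArg (fun g => g.hom y) e1
    have h2 : ∀ y, χ.hom (i' y) = ψ y := fun y => congrArg (fun g => g.hom y) e2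
    exact ⟨{ χ.hom with
      commutes' := fun r => by
        show χ.hom (algebraMap H Y' r) = _
        rw [← j'.commutes, h1, φ.commutes] }, AlgHom.ext h1, AlgHom.ext h2⟩
  ext T _ _ χ χ' e1 e2 := by
    have := h.hom_ext (k := CommRingCat.ofHom χ.toRingHom) (l := CommRingCat.ofHom χ'.toRingHom)
      (CommRingCat.hom_ext (RingHom.ext fun x => AlgHom.congr_fun e1 x))
      (CommRingCat.hom_ext (RingHom.ext fun x => AlgHom.congr_fun e2 x))
    exact AlgHom.ext fun y => congrArg (fun g => g.hom y) this

/-- A retraction of an étale algebra cuts out a direct factor. -/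
theorem exists_idempotent_of_retraction {A A' : Type u} [CommRing A] [CommRing A'] [Algebra A A']
    [Algebra.FormallyUnramified A A'] [Algebra.FinitePresentation A A'] (σ : A' →ₐ[A] A) :
    ∃ e : A', IsIdempotentElem e ∧ σ e = 1 ∧ ∀ a, a * e = algebraMap A A' (σ a) * e := by
  let I := RingHom.ker σ
  have hfg : I.FG := Algebra.FinitePresentation.ker_fG_of_surjective σ fun a => ⟨algebraMap A A' a, σ.commutes a⟩
  have hidem : IsIdempotentElem I := by
    refine le_antisymm Ideal.mul_le_left fun a ha => ?_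
    let Q := A' ⧸ I * I
    let J := I.map (Ideal.Quotient.mk (I * I))
    have hJ : IsNilpotent J := ⟨2, by
      rw [pow_two, ← Ideal.map_mul]
      exact Ideal.map_quotient_self _⟩
    have := Algebra.FormallyUnramified.lift_unique J hJ (Ideal.Quotient.mkₐ A (I * I))
      ((Algebra.ofId A Q).comp σ) (AlgHom.ext fun b => Ideal.Quotient.eq.2 (by
        show Ideal.Quotient.mk (I * I) b - algebraMap A Q (σ b) ∈ J
        rw [IsScalarTower.algebraMap_apply A A' Q, Ideal.Quotient.algebraMap_eq, ← map_sub]
        refine Ideal.mem_map_of_mem _ ?_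
        show σ (b - algebraMap A A' (σ b)) = 0
        rw [map_sub, σ.commutes]
        exact sub_self _))
    refine Ideal.Quotient.eq_zero_iff_mem.1 ?_
    have h := AlgHom.congr_fun this a
    rwa [AlgHom.comp_apply, show σ a = 0 from ha, map_zero] at h
  obtain ⟨e, he, hIe⟩ := (Ideal.isIdempotentElem_iff_of_fg I hfg).1 hidem
  have hσe : σ e = 0 := (hIe ▸ Submodule.mem_span_singleton_self e : e ∈ I)
  refine ⟨1 - e, he.one_sub, by simp [hσe], fun a => ?_⟩
  have hmem : a - algebraMap A A' (σ a) ∈ I := by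
    show σ _ = 0
    rw [map_sub, σ.commutes]
    exact sub_self _
  rw [hIe, Submodule.mem_span_singleton] at hmem
  obtain ⟨c, hc⟩ := hmem
  rw [← sub_eq_zero, ← sub_mul, ← hc, smul_eq_mul, mul_assoc, mul_sub, mul_one, he.eq, sub_self, mul_zero]

section Points

variable {H : Type u} [CommRing H] {Ω : Type u} [Field Ω] [Algebra H Ω]

/-- The image of the base is, up to purely inseparable extension, the whole field. -/
structure IsClosedGeom (H : Type u) [CommRing H] (Ω : Type u) [Field Ω] [Algebra H Ω] : Prop where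
  algClosed : IsAlgClosed Ω
  ker_isMaximal : (RingHom.ker (algebraMap H Ω)).IsMaximal
  radicial : ∀ z : Ω, ∃ (n : ℕ) (h : H), z ^ (ringExpChar Ω) ^ n = algebraMap H Ω h

theorem IsClosedGeom.hom_ext (hΩ : IsClosedGeom H Ω) {X : Type u} [CommRing X] [Algebra H X] (x y : X →ₐ[H] Ω)
    (h : ∀ a, x a = 0 → y a = 0) : x = y := by
  refine AlgHom.ext fun a => ?_
  obtain ⟨n, c, hc⟩ := hΩ.radicial (x a)
  have h1 := h (a ^ (ringExpChar Ω) ^ n - algebraMap H X c) (by rw [map_sub, map_pow, hc, AlgHom.commutes, sub_self])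
  rw [map_sub, map_pow, AlgHom.commutes, sub_eq_zero, ← hc] at h1
  exact iterateFrobenius_inj Ω (ringExpChar Ω) n h1.symm

theorem IsClosedGeom.ker_isMaximal_of_isIntegral (hΩ : IsClosedGeom H Ω) {X : Type u} [CommRing X] [Algebra H X]
    [Algebra.IsIntegral H X] (x : X →ₐ[H] Ω) : (RingHom.ker x).IsMaximal := by
  haveI : (RingHom.ker x).IsPrime := RingHom.ker_isPrime _
  refine Ideal.isMaximal_of_isIntegral_of_isMaximal_comap (R := H) _ ?_
  convert hΩ.ker_isMaximal using 1
  ext c
  simp [AlgHom.commutes]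

variable [IsLocalRing H]

theorem IsClosedGeom.comap_maximal (hΩ : IsClosedGeom H Ω) : RingHom.ker (algebraMap H Ω) = maximalIdeal H :=
  eq_maximalIdeal hΩ.ker_isMaximal

theorem IsClosedGeom.exists_point (hΩ : IsClosedGeom H Ω) {X : Type u} [CommRing X] [Algebra H X]
    (M : Ideal X) [M.IsPrime] (hMH : M.comap (algebraMap H X) = maximalIdeal H)
    [Algebra.IsIntegral H (X ⧸ M)] :
    ∃ x : X →ₐ[H] Ω, RingHom.ker x = M := by
  haveI := hΩ.algClosed
  let k := ResidueField H
  let θ : k →+* X ⧸ M := Ideal.quotientMap M (algebraMap H X) hMH.ge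
  let : Algebra k (X ⧸ M) := θ.toAlgebra
  let : Algebra k Ω := (Ideal.Quotient.lift _ (algebraMap H Ω) fun c hc => by
    rw [← RingHom.mem_ker, hΩ.comap_maximal]; exact hc).toAlgebra
  haveI : IsScalarTower H k (X ⧸ M) := IsScalarTower.of_algebraMap_eq fun c => rfl
  haveI : IsScalarTower H k Ω := IsScalarTower.of_algebraMap_eq fun c => rfl
  haveI : Algebra.IsIntegral k (X ⧸ M) := Algebra.IsIntegral.tower_top (R := H)
  haveI : IsDomain (X ⧸ M) := Ideal.Quotient.isDomain M
  have hfld : IsField (X ⧸ M) := isField_of_isIntegral_of_isField' (R := k) (Field.toIsField k)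
  let := hfld.toField
  let φ : (X ⧸ M) →ₐ[k] Ω := IsAlgClosed.lift
  refine ⟨(φ.restrictScalars H).comp (Ideal.Quotient.mkₐ H M), ?_⟩
  ext a
  show φ (Ideal.Quotient.mk M a) = 0 ↔ a ∈ M
  rw [map_eq_zero_iff φ φ.toRingHom.injective, Ideal.Quotient.eq_zero_iff_mem]

/-- Over a strictly henselian local ring the algebraic closure of the residue field is a closed geometric point. -/
theorem exists_isClosedGeom (H : Type u) [CommRing H] [IsLocalRing H] [IsSepClosed (ResidueField H)] :
    ∃ (Ω : Type u) (_ : Field Ω) (_ : Algebra H Ω), IsClosedGeom H Ω := by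
  let k := ResidueField H
  refine ⟨AlgebraicClosure k, inferInstance, inferInstance, inferInstance, ?_, fun z => ?_⟩
  · convert maximalIdeal.isMaximal H using 1
    ext c
    rw [RingHom.mem_ker, IsScalarTower.algebraMap_apply H k, map_eq_zero, IsLocalRing.ResidueField.algebraMap_eq,
      residue_eq_zero_iff]
  · haveI : ExpChar k (ringExpChar (AlgebraicClosure k)) :=
      (algebraMap k (AlgebraicClosure k)).expChar (algebraMap k (AlgebraicClosure k)).injective _
    haveI : IsPurelyInseparable k (AlgebraicClosure k) := inferInstance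
    obtain ⟨n, c, hc⟩ := IsPurelyInseparable.pow_mem k (ringExpChar (AlgebraicClosure k)) z
    obtain ⟨c, rfl⟩ := residue_surjective c
    exact ⟨n, c, hc.symm.trans rfl⟩

/-- A point of a formally unramified algebra of finite type has the values of the point below it. -/
theorem IsClosedGeom.mem_range_of_formallyUnramified (hΩ : IsClosedGeom H Ω) {A A' : Type u} [CommRing A]
    [CommRing A'] [Algebra H A] [Algebra A A'] [Algebra H A'] [IsScalarTower H A A'] [Algebra.IsIntegral H A]
    [Algebra.FormallyUnramified A A'] [Algebra.FiniteType A A'] (x' : A' →ₐ[H] Ω) (a' : A') :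
    ∃ a : A, x' (algebraMap A A' a) = x' a' := by
  let x : A →ₐ[H] Ω := x'.comp (IsScalarTower.toAlgHom H A A')
  haveI := hΩ.ker_isMaximal_of_isIntegral x
  let := Ideal.Quotient.field (RingHom.ker x)
  let F := A ⧸ RingHom.ker x
  let xb : F →+* Ω := Ideal.Quotient.lift _ x.toRingHom fun _ h => h
  let : Algebra F Ω := xb.toAlgebra
  let : Algebra A Ω := x.toRingHom.toAlgebra
  haveI : IsScalarTower A F Ω := IsScalarTower.of_algebraMap_eq fun _ => rfl
  let xA : A' →ₐ[A] Ω := { x'.toRingHom with commutes' := fun _ => rfl }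
  let B : Subalgebra A Ω := xA.range
  let L : Subalgebra F Ω :=
    { B.toSubsemiring with
      algebraMap_mem' := fun c => by
        obtain ⟨a, rfl⟩ := Ideal.Quotient.mk_surjective c
        exact ⟨algebraMap A A' a, rfl⟩ }
  haveI : IsScalarTower A F L := IsScalarTower.of_algebraMap_eq fun _ => rfl
  let π : A' →ₐ[A] L := AlgHom.codRestrict xA (L.restrictScalars A) fun b => ⟨b, rfl⟩
  have hπ : Function.Surjective π := fun ⟨z, b, hb⟩ => ⟨b, Subtype.ext hb⟩
  haveI : Algebra.FormallyUnramified A L := Algebra.FormallyUnramified.of_surjective π hπ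
  haveI : Algebra.FiniteType A L := .of_surjective π hπ
  haveI : Algebra.FormallyUnramified F L := Algebra.FormallyUnramified.of_restrictScalars A F L
  haveI : Algebra.FiniteType F L := .of_restrictScalars_finiteType A F L
  haveI : Algebra.IsAlgebraic F Ω := ⟨fun z => by
    obtain ⟨n, c, hc⟩ := hΩ.radicial z
    refine (IsIntegral.of_pow (pow_pos (expChar_pos Ω (ringExpChar Ω)) n) ?_).isAlgebraic
    rw [hc, ← x.commutes c]
    exact isIntegral_algebraMap (R := F) (x := Ideal.Quotient.mk _ (algebraMap H A c))⟩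
  haveI : Algebra.IsIntegral F Ω := Algebra.IsAlgebraic.isIntegral
  haveI : Algebra.IsIntegral F L := Algebra.IsIntegral.of_injective L.val Subtype.val_injective
  have hfld : IsField L := isField_of_isIntegral_of_isField' (R := F) (Field.toIsField F)
  let := hfld.toField
  haveI : Algebra.IsSeparable F L := Algebra.FormallyUnramified.isSeparable F L
  haveI : ExpChar F (ringExpChar Ω) := (algebraMap F Ω).expChar (algebraMap F Ω).injective (ringExpChar Ω)
  haveI : IsPurelyInseparable F L := (isPurelyInseparable_iff_pow_mem F (ringExpChar Ω)).2 fun z => by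
    obtain ⟨n, c, hc⟩ := hΩ.radicial (z : Ω)
    refine ⟨n, Ideal.Quotient.mk _ (algebraMap H A c), Subtype.ext ?_⟩
    show x (algebraMap H A c) = _
    rw [x.commutes]
    simpa using hc.symm
  obtain ⟨c, hc⟩ := IsPurelyInseparable.surjective_algebraMap_of_isSeparable F L (π a')
  obtain ⟨a, rfl⟩ := Ideal.Quotient.mk_surjective c
  exact ⟨a, congrArg Subtype.val hc⟩

end Points

end Groth.Agent.GrpdEtQuot
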