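import Groth.Agent.GrpdEtQuot.Cartesian
import Groth.Agent.GrpdLib.Quot
import Groth.Prelude.Def_Grpd
import Mathlib.AlgebraicGeometry.Morphisms.Etale

/-!
# The algebra of an étale cartesian morphism of affine groupoid schemes
-/

set_option autoImplicit false
set_option backward.isDefEq.respectTransparency false
set_option backward.isDefEq.respectTransparency.types false

universe u

open CategoryTheory CategoryTheory.Limits AlgebraicGeometry Grpd TensorProduct

namespace Groth.Agent.GrpdEtQuot

open GrpdLib (pointHom ofPointHom pointHom_comp pointHom_ofPointHom pointHom_injective)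

variable {S : Scheme.{u}} {G' G : GroupoidScheme S} (f : GroupoidScheme.Hom G' G)

theorem comm_s_apply (a : Γ(G.U, ⊤)) : G'.s.appTop (f.fU.appTop a) = f.fR.appTop (G.s.appTop a) := by
  have h := congrArg Scheme.Hom.appTop f.comm_s
  rw [Scheme.Hom.comp_appTop, Scheme.Hom.comp_appTop] at h
  exact (congrArg (fun φ => φ.hom a) h).symm

theorem comm_t_apply (a : Γ(G.U, ⊤)) : G'.t.appTop (f.fU.appTop a) = f.fR.appTop (G.t.appTop a) := by
  have h := congrArg Scheme.Hom.appTop f.comm_t
  rw [Scheme.Hom.comp_appTop, Scheme.Hom.comp_appTop] at h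
  exact (congrArg (fun φ => φ.hom a) h).symm

/-- The invariants map to the invariants. -/
theorem appTop_mem_invariants (c : G.invariants) : f.fU.appTop c.1 ∈ G'.invariants := by
  show G'.s.appTop (f.fU.appTop c.1) = G'.t.appTop (f.fU.appTop c.1)
  rw [comm_s_apply, comm_t_apply]
  exact congrArg _ c.2

/-- The map of invariant rings. -/
noncomputable def invMap : G.invariants →+* G'.invariants :=
  (f.fU.appTop.hom.comp G.invariants.subtype).codRestrict G'.invariants (appTop_mem_invariants f)

variable [IsAffine G.U] [IsAffine G.R] [IsAffine G'.U] [IsAffine G'.R]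

theorem exists_stab {Ω : Type u} [Field Ω]
    (hs : IsPullback f.fR G'.s G.s f.fU)
    (hstab : ∃ g : G'.stabilizer ⟶ G.stabilizer, g ≫ pullback.fst G.j G.diag = pullback.fst G'.j G'.diag ≫ f.fR ∧
      IsPullback g G'.stabilizerToU G.stabilizerToU f.fU)
    (β₁ β₂ : Spec (CommRingCat.of Ω) ⟶ G'.R) (h1 : β₁ ≫ G'.s = β₂ ≫ G'.s)
    (h2 : (β₁ ≫ G'.t) ≫ f.fU = (β₂ ≫ G'.t) ≫ f.fU) : β₁ ≫ G'.t = β₂ ≫ G'.t := by
  obtain ⟨g, hg, hgsq⟩ := hstab
  let T := Spec (CommRingCat.of Ω)
  have hc : β₂ ≫ G'.s = (β₁ ≫ G'.i) ≫ G'.t := by rw [Category.assoc, G'.i_t]; exact h1.symm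
  obtain ⟨γ, hγs, hγt⟩ : ∃ γ : T ⟶ G'.R, γ ≫ G'.s = β₁ ≫ G'.t ∧ γ ≫ G'.t = β₂ ≫ G'.t :=
    ⟨pullback.lift β₂ (β₁ ≫ G'.i) hc ≫ G'.c, by rw [G'.comp_s, Category.assoc, G'.i_s], G'.comp_t _ _ hc⟩
  have hst : ((γ ≫ f.fR) ≫ G.t) = ((γ ≫ f.fR) ≫ G.s) := by
    rw [Category.assoc, f.comm_t, ← Category.assoc, hγt, ← h2, ← hγs, Category.assoc, ← f.comm_s, ← Category.assoc]
  let w : T ⟶ G.stabilizer := pullback.lift (γ ≫ f.fR) ((γ ≫ f.fR) ≫ G.s) (by
    apply pullback.hom_ext
    · simp only [GroupoidScheme.j, GroupoidScheme.diag, Category.assoc, pullback.lift_fst, Category.comp_id]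
      simpa only [Category.assoc] using hst
    · simp only [GroupoidScheme.j, GroupoidScheme.diag, Category.assoc, pullback.lift_snd, Category.comp_id])
  have hwv : w ≫ G.stabilizerToU = (γ ≫ G'.s) ≫ f.fU := by
    show w ≫ pullback.snd G.j G.diag = _
    rw [pullback.lift_snd]
    show (γ ≫ f.fR) ≫ G.s = _
    rw [Category.assoc, f.comm_s, Category.assoc]
  let w' := hgsq.lift w (γ ≫ G'.s) hwv
  let ω := w' ≫ pullback.fst G'.j G'.diag
  have hωfR : ω ≫ f.fR = γ ≫ f.fR := by
    rw [Category.assoc, ← hg, ← Category.assoc, hgsq.lift_fst, pullback.lift_fst]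
  have hωj : ω ≫ G'.j = (γ ≫ G'.s) ≫ G'.diag := by
    rw [Category.assoc, pullback.condition, ← Category.assoc]
    congr 1
    exact hgsq.lift_snd _ _ _
  have hωs : ω ≫ G'.s = γ ≫ G'.s := by
    have := congrArg (· ≫ pullback.snd _ _) hωj
    simpa [GroupoidScheme.j, GroupoidScheme.diag] using this
  have hωt : ω ≫ G'.t = γ ≫ G'.s := by
    have := congrArg (· ≫ pullback.fst _ _) hωj
    simpa [GroupoidScheme.j, GroupoidScheme.diag] using this
  have he : ω = γ := hs.hom_ext hωfR hωs
  rw [he] at hωt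
  rw [← hγt, hωt, hγs]

variable [IsFinite G.s] [Flat G.s] [LocallyOfFinitePresentation G.s]
  (hs : IsPullback f.fR G'.s G.s f.fU) (ht : IsPullback f.fR G'.t G.t f.fU)
  (hstab : ∃ g : G'.stabilizer ⟶ G.stabilizer, g ≫ pullback.fst G.j G.diag = pullback.fst G'.j G'.diag ≫ f.fR ∧
    IsPullback g G'.stabilizerToU G.stabilizerToU f.fU) [Etale f.fU]

/-- A point of an affine scheme as a ring map. -/
noncomputable abbrev pt {X : Scheme.{u}} [IsAffine X] {Ω : Type u} [Field Ω] (φ : Γ(X, ⊤) →+* Ω) :
    Spec (CommRingCat.of Ω) ⟶ X :=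
  ofPointHom (K := CommRingCat.of Ω) φ

theorem pt_comp {X Y : Scheme.{u}} [IsAffine X] [IsAffine Y] {Ω : Type u} [Field Ω] (φ : Γ(X, ⊤) →+* Ω) (h : X ⟶ Y) :
    pointHom (pt φ ≫ h) = φ.comp h.appTop.hom := by
  rw [pointHom_comp, pointHom_ofPointHom]

set_option maxHeartbeats 1000000 in
/-- The setup of a morphism of groupoids. -/
noncomputable def setupOf : Setup G.invariants :=
  letI : Algebra G.invariants Γ(G.R, ⊤) := (G.s.appTop.hom.comp G.invariants.subtype).toAlgebra
  letI : Algebra G.invariants Γ(G'.U, ⊤) := (f.fU.appTop.hom.comp G.invariants.subtype).toAlgebra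
  letI : Algebra G.invariants Γ(G'.R, ⊤) :=
    (G'.s.appTop.hom.comp (f.fU.appTop.hom.comp G.invariants.subtype)).toAlgebra
  { A := Γ(G.U, ⊤)
    B := Γ(G.R, ⊤)
    A' := Γ(G'.U, ⊤)
    B' := Γ(G'.R, ⊤)
    s := { G.s.appTop.hom with commutes' := fun _ => rfl }
    t := { G.t.appTop.hom with commutes' := fun c => c.2.symm }
    s' := { G'.s.appTop.hom with commutes' := fun _ => rfl }
    t' := { G'.t.appTop.hom with commutes' := fun c => (appTop_mem_invariants f c).symm }
    f := { f.fU.appTop.hom with commutes' := fun _ => rfl }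
    fR := { f.fR.appTop.hom with commutes' := fun c => (comm_s_apply f c.1).symm }
    hs := IsPO.of_isPushout _ _ _ _ (isPushout_appTop_of_isPullback hs)
    ht := IsPO.of_isPushout _ _ _ _ (isPushout_appTop_of_isPullback ht)
    integral := GrpdLib.isIntegral_invariants G
    finite := G.s.finite_appTop
    etale := (HasRingHomProperty.iff_of_isAffine (P := @Etale)).1 ‹Etale f.fU›
    conn := fun Ω _ _ _ x y => by
      obtain ⟨n, ⟨F⟩⟩ := GrpdLib.exists_frame_affData G
      obtain ⟨χ, h1, h2⟩ := (GrpdLib.affData G).exists_point F G.s.finite_appTop y.toRingHom x.toRingHom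
        fun a ha => (y.commutes ⟨a, ha⟩).trans (x.commutes ⟨a, ha⟩).symm
      exact ⟨{ χ with commutes' := fun c => (congrArg (fun φ => φ c.1) h2).trans (x.commutes c) },
        AlgHom.ext fun a => congrArg (fun φ => φ a) h2, AlgHom.ext fun a => congrArg (fun φ => φ a) h1⟩
    idPt := fun Ω _ _ x' => by
      have hes : ∀ a, G'.e.appTop (G'.s.appTop a) = a := fun a => by
        have h := congrArg Scheme.Hom.appTop G'.e_s
        rw [Scheme.Hom.comp_appTop] at h
        exact congrArg (fun φ => φ.hom a) h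
      have het : ∀ a, G'.e.appTop (G'.t.appTop a) = a := fun a => by
        have h := congrArg Scheme.Hom.appTop G'.e_t
        rw [Scheme.Hom.comp_appTop] at h
        exact congrArg (fun φ => φ.hom a) h
      exact ⟨{ x'.toRingHom.comp G'.e.appTop.hom with
          commutes' := fun c => (congrArg x' (hes _)).trans (x'.commutes c) },
        AlgHom.ext fun a => congrArg x' (hes a), AlgHom.ext fun a => congrArg x' (het a)⟩
    invPt := fun Ω _ _ χ => by
      have his : ∀ a, G'.i.appTop (G'.s.appTop a) = G'.t.appTop a := fun a => by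
        have h := congrArg Scheme.Hom.appTop G'.i_s
        rw [Scheme.Hom.comp_appTop] at h
        exact congrArg (fun φ => φ.hom a) h
      have hit : ∀ a, G'.i.appTop (G'.t.appTop a) = G'.s.appTop a := fun a => by
        have h := congrArg Scheme.Hom.appTop G'.i_t
        rw [Scheme.Hom.comp_appTop] at h
        exact congrArg (fun φ => φ.hom a) h
      exact ⟨{ χ.toRingHom.comp G'.i.appTop.hom with
          commutes' := fun c => (congrArg χ (his _)).trans
            ((congrArg χ (appTop_mem_invariants f c).symm).trans (χ.commutes c)) },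
        AlgHom.ext fun a => congrArg χ (his a), AlgHom.ext fun a => congrArg χ (hit a)⟩
    compPt := fun Ω _ _ χ₁ χ₂ h => by
      let γ := pullback.lift (pt χ₁.toRingHom) (pt χ₂.toRingHom) (pointHom_injective (by
        rw [pt_comp, pt_comp]
        exact RingHom.ext fun a => (AlgHom.congr_fun h a).symm)) ≫ G'.c
      have h1 : (pointHom γ).comp G'.s.appTop.hom = χ₂.toRingHom.comp G'.s.appTop.hom := by
        rw [← pointHom_comp, G'.comp_s, pt_comp]
      have h2 : (pointHom γ).comp G'.t.appTop.hom = χ₁.toRingHom.comp G'.t.appTop.hom := by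
        rw [← pointHom_comp, G'.comp_t, pt_comp]
      exact ⟨{ pointHom γ with commutes' := fun c => (show pointHom γ (G'.s.appTop (f.fU.appTop c.1)) = χ₂ (G'.s.appTop (f.fU.appTop c.1)) from congrArg (fun φ => φ (f.fU.appTop c.1)) h1).trans (χ₂.commutes c) },
        AlgHom.ext fun a => congrArg (fun φ => φ a) h1, AlgHom.ext fun a => congrArg (fun φ => φ a) h2⟩
    stab := fun Ω _ _ _ χ₁ χ₂ h1 h2 => by
      have h := exists_stab f hs hstab (pt χ₁.toRingHom) (pt χ₂.toRingHom)
        (pointHom_injective (by rw [pt_comp, pt_comp]; exact RingHom.ext fun a => AlgHom.congr_fun h1 a))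
        (pointHom_injective (by
          rw [pointHom_comp, pointHom_comp (x := pt χ₂.toRingHom ≫ G'.t), pt_comp, pt_comp]
          exact RingHom.ext fun a => AlgHom.congr_fun h2 a))
      have h' := congrArg pointHom h
      rw [pt_comp, pt_comp] at h'
      exact AlgHom.ext fun a => congrArg (fun φ => φ a) h' }

variable [IsFinite G'.s] [Flat G'.s] [LocallyOfFinitePresentation G'.s]

theorem isQuot_setupOf : (setupOf f hs ht hstab).IsQuot where
  injective := Subtype.val_injective
  invariant a ha := ⟨⟨a, ha⟩, rfl⟩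
  integral' := by
    have h := GrpdLib.isIntegral_invariants G'
    exact ⟨fun a => by
      obtain ⟨p, hp, hpa⟩ := h.isIntegral a
      let e : G'.invariants →+* (setupOf f hs ht hstab).inv' :=
        { toFun := fun c => ⟨c.1, c.2⟩
          map_one' := rfl
          map_mul' := fun _ _ => rfl
          map_zero' := rfl
          map_add' := fun _ _ => rfl }
      refine ⟨p.map e, hp.map e, ?_⟩
      rw [Polynomial.eval₂_map]
      exact hpa⟩

include hs ht hstab in
/-- The square over the invariants is a pushout. -/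
theorem isPushout_invariants :
    IsPushout (CommRingCat.ofHom (invMap f)) (CommRingCat.ofHom G.invariants.subtype)
      (CommRingCat.ofHom G'.invariants.subtype) f.fU.appTop := by
  let T := setupOf f hs ht hstab
  letI : Algebra G.invariants G'.invariants := (invMap f).toAlgebra
  let e : T.inv' ≃+* G'.invariants :=
    { toFun := fun c => ⟨c.1, c.2⟩
      invFun := fun c => ⟨c.1, c.2⟩
      left_inv := fun _ => rfl
      right_inv := fun _ => rfl
      map_mul' := fun _ _ => rfl
      map_add' := fun _ _ => rfl }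
  let e' : T.inv' ≃ₐ[G.invariants] G'.invariants := AlgEquiv.ofRingEquiv (f := e) fun _ => Subtype.ext rfl
  let Φ := (AlgEquiv.ofBijective T.cmp (isQuot_setupOf f hs ht hstab).bijective_cmp)
  refine IsPushout.of_iso (CommRingCat.isPushout_tensorProduct G.invariants T.A T.inv').flip
    (Iso.refl _) e'.toRingEquiv.toCommRingCatIso (Iso.refl _) Φ.toRingEquiv.toCommRingCatIso ?_ ?_ ?_ ?_
  · exact CommRingCat.hom_ext (RingHom.ext fun c => Subtype.ext rfl)
  · exact CommRingCat.hom_ext (RingHom.ext fun c => rfl)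
  · refine CommRingCat.hom_ext (RingHom.ext fun c => ?_)
    show T.cmp ((1 : T.A) ⊗ₜ c) = c.1
    simp [Setup.cmp]
  · refine CommRingCat.hom_ext (RingHom.ext fun a => ?_)
    show T.cmp (a ⊗ₜ (1 : T.inv')) = f.fU.appTop a
    simp only [Setup.cmp, Algebra.TensorProduct.lift_tmul, map_one, mul_one]
    rfl

end Groth.Agent.GrpdEtQuot
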