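import Groth.Agent.GrpdEtQuot.Local

/-!
# Cartesian-ness over the invariants
-/

set_option autoImplicit false
set_option synthInstance.maxHeartbeats 400000
set_option maxSynthPendingDepth 3

universe u

open TensorProduct IsLocalRing

namespace Groth.Agent.GrpdEtQuot

variable {K : Type u} [CommRing K] {S : Setup K} (hS : S.IsQuot)

/-- The inclusion of the invariants in the base change. -/
noncomputable abbrev Setup.incr : S.inv' →ₐ[K] S.A ⊗[K] S.inv' := Algebra.TensorProduct.includeRight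

theorem Setup.tR_cmp_incr (R : Type u) [CommRing R] [Algebra K R] :
    (tR R S.cmp).comp (tR R S.incr) = tR R S.inv'.val :=
  res_injective R (AlgHom.ext fun c => by simp [res, tR, Setup.incr, Setup.cmp])

theorem Setup.tR_cmp_incl (R : Type u) [CommRing R] [Algebra K R] :
    (tR R S.cmp).comp (tR R (Algebra.TensorProduct.includeLeft : S.A →ₐ[K] S.A ⊗[K] S.inv')) = tR R S.f :=
  res_injective R (AlgHom.ext fun c => by simp [res, tR, Setup.cmp])

include hS in
/-- At each prime of the base change there is a factor on which the comparison map is an isomorphism. -/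
theorem Setup.IsQuot.exists_factor_at (P : Ideal (S.A ⊗[K] S.inv')) [P.IsPrime] :
    ∃ (R : Type u) (_ : CommRing R) (_ : Algebra K R) (_ : Module.Flat K R) (Ph : Ideal (R ⊗[K] (S.A ⊗[K] S.inv')))
      (ε : R ⊗[K] (S.A ⊗[K] S.inv')) (σ : R ⊗[K] S.A' →ₐ[R] R ⊗[K] S.A),
      P.map (Algebra.TensorProduct.includeRight (R := K) (A := R) (B := S.A ⊗[K] S.inv')).toRingHom ≤ Ph ∧ ε ∉ Ph ∧
      σ (tR R S.cmp ε) = 1 ∧ σ.comp (tR R S.f) = AlgHom.id R (R ⊗[K] S.A) ∧
      (∀ a, a * tR R S.cmp ε = tR R S.f (σ a) * tR R S.cmp ε) ∧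
      ∀ w, ∃ α, w * ε = tR R (Algebra.TensorProduct.includeLeft : S.A →ₐ[K] S.A ⊗[K] S.inv') α * ε := by
  obtain ⟨R, i1, i2, i3, h1, h3, h2⟩ := hS.exists_base (P.comap S.incr.toRingHom)
  letI := i3
  haveI := h1
  haveI := h3
  have hP : (maximalIdeal R).comap (algebraMap K R) = P.comap (algebraMap K (S.A ⊗[K] S.inv')) := by
    rw [h2, Ideal.comap_comap]
    congr 1
    exact S.incr.comp_algebraMap
  obtain ⟨Ph, hPh, hPhR, hPhP⟩ := exists_prime_over R (maximalIdeal R) P hP
  haveI := hPh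
  let η := tR R S.incr
  let Q' := Ph.comap η.toRingHom
  haveI : Q'.IsPrime := Ideal.IsPrime.comap _
  obtain ⟨e₀, π, σ, he₀, hidem, hπe, hmul₀, hσf, hσe, hmul, hσπ⟩ := hS.exists_factor Q' (by
    rw [Ideal.comap_comap]
    exact (congrArg (Ideal.comap · Ph) η.comp_algebraMap).trans hPhR)
  have he : tR R S.cmp (η e₀) = tR R S.inv'.val e₀ := AlgHom.congr_fun (S.tR_cmp_incr R) e₀
  refine ⟨R, i1, i2, h1, Ph, η e₀, σ, ?_, he₀, ?_, hσf, ?_, fun w => ?_⟩
  · rw [Ideal.map_le_iff_le_comap]
    exact hPhP.ge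
  · rw [he]; exact hσe
  · rw [he]; exact hmul
  induction w using TensorProduct.induction_on with
  | zero => exact ⟨0, by simp⟩
  | tmul r m =>
    induction m using TensorProduct.induction_on with
    | zero => exact ⟨0, by simp⟩
    | tmul a c =>
      refine ⟨(r ⊗ₜ a) * algebraMap R _ (π ((1 : R) ⊗ₜ c)), ?_⟩
      have e1 : (r ⊗ₜ[K] (a ⊗ₜ[K] c) : R ⊗[K] (S.A ⊗[K] S.inv')) =
          tR R (Algebra.TensorProduct.includeLeft : S.A →ₐ[K] S.A ⊗[K] S.inv') (r ⊗ₜ a) * η ((1 : R) ⊗ₜ c) := by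
        simp [η, tR, Setup.incr]
      rw [e1, mul_assoc, ← map_mul η, hmul₀, map_mul η, AlgHom.commutes, map_mul, AlgHom.commutes, mul_assoc]
    | add m m' hm hm' =>
      obtain ⟨a, ha⟩ := hm
      obtain ⟨b, hb⟩ := hm'
      exact ⟨a + b, by rw [tmul_add, add_mul, ha, hb, map_add, add_mul]⟩
  | add v w hv hw =>
    obtain ⟨a, ha⟩ := hv
    obtain ⟨b, hb⟩ := hw
    exact ⟨a + b, by rw [add_mul, ha, hb, map_add, add_mul]⟩

theorem lTensor_toLinearMap {R : Type u} [CommRing R] [Algebra K R] {M N : Type u} [CommRing M] [CommRing N]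
    [Algebra K M] [Algebra K N] (φ : M →ₐ[K] N) (v : R ⊗[K] M) : φ.toLinearMap.lTensor R v = tR R φ v := by
  induction v using TensorProduct.induction_on with
  | zero => simp
  | tmul r x => simp [tR]
  | add a b ha hb => rw [map_add, map_add, ha, hb]

theorem lTensor_mul_right {R : Type u} [CommRing R] [Algebra K R] {M : Type u} [CommRing M]
    [Algebra K M] (z : M) (v : R ⊗[K] M) : (LinearMap.mulRight K z).lTensor R v = v * ((1 : R) ⊗ₜ z) := by
  induction v using TensorProduct.induction_on with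
  | zero => simp
  | tmul r x => simp
  | add a b ha hb => rw [map_add, add_mul, ha, hb]

include hS in
/-- The comparison map is bijective. -/
theorem Setup.IsQuot.bijective_cmp : Function.Bijective S.cmp := by
  constructor
  · rw [injective_iff_map_eq_zero]
    intro z hz
    let J : Ideal (S.A ⊗[K] S.inv') := Submodule.annihilator ((S.A ⊗[K] S.inv') ∙ z)
    suffices hJ : J = ⊤ by
      have h1 : (1 : S.A ⊗[K] S.inv') ∈ J := hJ ▸ Submodule.mem_top
      simpa using (Submodule.mem_annihilator_span_singleton _ _).1 h1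
    by_contra hne
    obtain ⟨P, hP, hle⟩ := J.exists_le_maximal hne
    haveI := hP
    obtain ⟨R, _, _, _, Ph, ε, σ, hPh, hε, hσε, hσf, hmul, hgen⟩ := hS.exists_factor_at P
    refine hε (lTensor_mem_of_exact (LinearMap.mulRight K z) J (fun m hm => ?_) ε ?_ Ph
      ((Ideal.map_mono hle).trans hPh))
    · exact (Submodule.mem_annihilator_span_singleton _ _).2 hm
    obtain ⟨α, hα⟩ := hgen ((1 : R) ⊗ₜ z)
    rw [lTensor_mul_right, mul_comm, hα]
    have h := congrArg σ (congrArg (tR R S.cmp) hα)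
    have hz' : tR R S.cmp ((1 : R) ⊗ₜ z) = 0 := by simp [tR, hz]
    rw [map_mul, map_mul, map_mul, map_mul, hz', map_zero, zero_mul, hσε, mul_one] at h
    have hα0 : α = 0 := by
      rw [show tR R S.cmp (tR R Algebra.TensorProduct.includeLeft α) = tR R S.f α from
        AlgHom.congr_fun (S.tR_cmp_incl R) α] at h
      exact (AlgHom.congr_fun hσf α).symm.trans h.symm
    rw [hα0, map_zero, zero_mul]
  · intro y
    let rg : Submodule K S.A' := LinearMap.range S.cmp.toLinearMap
    let J : Ideal (S.A ⊗[K] S.inv') :=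
      { carrier := {m | S.cmp m * y ∈ rg}
        add_mem' := fun {a b} ha hb => by
          show S.cmp (a + b) * y ∈ rg
          rw [map_add, add_mul]
          exact rg.add_mem ha hb
        zero_mem' := by
          show S.cmp 0 * y ∈ rg
          rw [map_zero, zero_mul]
          exact rg.zero_mem
        smul_mem' := fun c m hm => by
          obtain ⟨x, hx⟩ := hm
          refine ⟨c * x, ?_⟩
          show S.cmp (c * x) = S.cmp (c * m) * y
          rw [map_mul, map_mul, mul_assoc, ← hx]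
          rfl }
    suffices hJ : J = ⊤ by
      obtain ⟨x, hx⟩ := (show (1 : S.A ⊗[K] S.inv') ∈ J from hJ ▸ Submodule.mem_top)
      refine ⟨x, ?_⟩
      rw [map_one, one_mul] at hx
      exact hx
    by_contra hne
    obtain ⟨P, hP, hle⟩ := J.exists_le_maximal hne
    haveI := hP
    obtain ⟨R, _, _, _, Ph, ε, σ, hPh, hε, hσε, hσf, hmul, hgen⟩ := hS.exists_factor_at P
    refine hε (lTensor_mem_of_exact (rg.mkQ ∘ₗ (LinearMap.mulRight K y) ∘ₗ S.cmp.toLinearMap) J (fun m hm => ?_) ε ?_ Ph
      ((Ideal.map_mono hle).trans hPh))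
    · exact (Submodule.Quotient.mk_eq_zero rg).1 hm
    rw [LinearMap.lTensor_comp, LinearMap.lTensor_comp, LinearMap.comp_apply, LinearMap.comp_apply,
      lTensor_toLinearMap, lTensor_mul_right, mul_comm, hmul,
      show tR R S.f (σ ((1 : R) ⊗ₜ y)) = tR R S.cmp (tR R Algebra.TensorProduct.includeLeft (σ ((1 : R) ⊗ₜ y))) from
        (AlgHom.congr_fun (S.tR_cmp_incl R) _).symm,
      ← map_mul (tR R S.cmp), ← lTensor_toLinearMap, ← LinearMap.comp_apply, ← LinearMap.lTensor_comp,
      show rg.mkQ ∘ₗ S.cmp.toLinearMap = 0 from LinearMap.ext fun x =>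
        (Submodule.Quotient.mk_eq_zero rg).2 ⟨x, rfl⟩, LinearMap.lTensor_zero, LinearMap.zero_apply]

end Groth.Agent.GrpdEtQuot
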