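import Groth.Agent.GrpdEtQuot.Basic
import Groth.Agent.Hensel.PairBasic
import Groth.Agent.Hensel.Local
import Mathlib.RingTheory.Ideal.Quotient.Operations
import Mathlib.FieldTheory.Minpoly.Field

/-!
# An invariant idempotent through every closed geometric point
-/

set_option autoImplicit false

universe u

namespace Groth.Agent.GrpdEtQuot

open IsLocalRing

variable {H : Type u} [CommRing H]

/-- The data of an étale morphism of groupoids with cartesian squares, as algebras. -/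
structure Setup (H : Type u) [CommRing H] where
  A : Type u
  B : Type u
  A' : Type u
  B' : Type u
  [instA : CommRing A]
  [instB : CommRing B]
  [instA' : CommRing A']
  [instB' : CommRing B']
  [algA : Algebra H A]
  [algB : Algebra H B]
  [algA' : Algebra H A']
  [algB' : Algebra H B']
  s : A →ₐ[H] B
  t : A →ₐ[H] B
  s' : A' →ₐ[H] B'
  t' : A' →ₐ[H] B'
  f : A →ₐ[H] A'
  fR : B →ₐ[H] B'
  hs : IsPO s f s' fR
  ht : IsPO t f t' fR
  integral : Algebra.IsIntegral H A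
  finite : s.toRingHom.Finite
  etale : f.toRingHom.Etale
  conn : ∀ (Ω : Type u) [Field Ω] [IsAlgClosed Ω] [Algebra H Ω] (x y : A →ₐ[H] Ω),
    ∃ β : B →ₐ[H] Ω, β.comp s = x ∧ β.comp t = y
  idPt : ∀ (Ω : Type u) [Field Ω] [Algebra H Ω] (x' : A' →ₐ[H] Ω),
    ∃ χ : B' →ₐ[H] Ω, χ.comp s' = x' ∧ χ.comp t' = x'
  invPt : ∀ (Ω : Type u) [Field Ω] [Algebra H Ω] (χ : B' →ₐ[H] Ω),
    ∃ χ₁ : B' →ₐ[H] Ω, χ₁.comp s' = χ.comp t' ∧ χ₁.comp t' = χ.comp s'
  compPt : ∀ (Ω : Type u) [Field Ω] [Algebra H Ω] (χ₁ χ₂ : B' →ₐ[H] Ω), χ₂.comp t' = χ₁.comp s' →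
    ∃ χ₃ : B' →ₐ[H] Ω, χ₃.comp s' = χ₂.comp s' ∧ χ₃.comp t' = χ₁.comp t'
  stab : ∀ (Ω : Type u) [Field Ω] [IsAlgClosed Ω] [Algebra H Ω] (χ₁ χ₂ : B' →ₐ[H] Ω),
    χ₁.comp s' = χ₂.comp s' → (χ₁.comp t').comp f = (χ₂.comp t').comp f → χ₁.comp t' = χ₂.comp t'

attribute [instance] Setup.instA Setup.instB Setup.instA' Setup.instB' Setup.algA Setup.algB Setup.algA' Setup.algB'

theorem finite_algHom_of_finite {X Y : Type u} [CommRing X] [CommRing Y] [Algebra H X] [Algebra H Y]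
    (s : X →ₐ[H] Y) (hfin : s.toRingHom.Finite) (Ω : Type u) [Field Ω] [Algebra H Ω] (x₀ : X →ₐ[H] Ω) :
    Finite {β : Y →ₐ[H] Ω // β.comp s = x₀} := by
  let := s.toRingHom.toAlgebra
  let := x₀.toRingHom.toAlgebra
  haveI : Module.Finite X Y := hfin
  let T := TensorProduct X Ω Y
  let φ : {β : Y →ₐ[H] Ω // β.comp s = x₀} → (T →ₐ[Ω] Ω) := fun β =>
    Algebra.TensorProduct.lift (Algebra.ofId Ω Ω)
      ({ β.1.toRingHom with commutes' := fun c => AlgHom.congr_fun β.2 c } : Y →ₐ[X] Ω) fun _ _ => Commute.all _ _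
  refine Finite.of_injective φ fun a b h => Subtype.ext (AlgHom.ext fun y => ?_)
  have := AlgHom.congr_fun h ((1 : Ω) ⊗ₜ[X] y)
  simp only [φ] at this
  erw [Algebra.TensorProduct.lift_tmul, Algebra.TensorProduct.lift_tmul] at this
  rw [map_one, one_mul, one_mul] at this
  exact this

variable [HenselianLocalRing H] (S : Setup H) {Ω : Type u} [Field Ω] [Algebra H Ω]

/-- The orbit of a point. -/
def Setup.orbit (x₀ : S.A' →ₐ[H] Ω) : Set (S.A' →ₐ[H] Ω) :=
  {x' | ∃ χ : S.B' →ₐ[H] Ω, χ.comp S.s' = x₀ ∧ χ.comp S.t' = x'}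

theorem Setup.exists_section (hΩ : IsClosedGeom H Ω) (x₀ : S.A' →ₐ[H] Ω) :
    ∃ e : S.A', IsIdempotentElem e ∧ ∃ σ : S.A' →ₐ[H] S.A, σ.comp S.f = AlgHom.id H S.A ∧ σ e = 1 ∧
      (∀ a, a * e = S.f (σ a) * e) ∧ ∀ x : S.A →ₐ[H] Ω, x.comp σ ∈ S.orbit x₀ := by
  classical
  haveI := hΩ.algClosed
  haveI := S.integral
  let := S.f.toRingHom.toAlgebra
  haveI : IsScalarTower H S.A S.A' := IsScalarTower.of_algebraMap_eq fun c => (S.f.commutes c).symm
  haveI : Algebra.Etale S.A S.A' := S.etale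
  -- finitely many points
  haveI : Finite (S.A →ₐ[H] Ω) := by
    haveI := finite_algHom_of_finite S.s S.finite Ω (x₀.comp S.f)
    exact Finite.of_surjective (fun β : {β : S.B →ₐ[H] Ω // β.comp S.s = x₀.comp S.f} => β.1.comp S.t)
      fun y => by
        obtain ⟨β, h1, h2⟩ := S.conn Ω (x₀.comp S.f) y
        exact ⟨⟨β, h1⟩, h2⟩
  -- a point of the orbit over each point
  have hlift : ∀ x : S.A →ₐ[H] Ω, ∃ x' ∈ S.orbit x₀, x'.comp S.f = x := fun x => by
    obtain ⟨β, h1, h2⟩ := S.conn Ω (x₀.comp S.f) x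
    obtain ⟨χ, h3, h4⟩ := S.hs.desc Ω β x₀ h1
    refine ⟨χ.comp S.t', ⟨χ, h4, rfl⟩, ?_⟩
    rw [AlgHom.comp_assoc, ← S.ht.comm, ← AlgHom.comp_assoc, h3, h2]
  choose pt hpt hptf using hlift
  let Idx := {M : Ideal S.A // ∃ x : S.A →ₐ[H] Ω, RingHom.ker x = M}
  haveI : Finite Idx := Finite.of_surjective (fun x => (⟨RingHom.ker x, x, rfl⟩ : Idx))
    fun ⟨M, x, hx⟩ => ⟨x, Subtype.ext hx⟩
  have hmax : ∀ i : Idx, i.1.IsMaximal := fun ⟨M, x, hx⟩ => hx ▸ hΩ.ker_isMaximal_of_isIntegral x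
  let J : Ideal S.A := ⨅ i : Idx, i.1
  have hIJ : (maximalIdeal H).map (algebraMap H S.A) ≤ J := le_iInf fun ⟨M, x, hx⟩ => by
    subst hx
    rw [Ideal.map_le_iff_le_comap]
    intro c hc
    show x (algebraMap H S.A c) = 0
    rw [AlgHom.commutes, ← RingHom.mem_ker, hΩ.comap_maximal]
    exact hc
  haveI : HenselianRing S.A ((maximalIdeal H).map (algebraMap H S.A)) :=
    Hensel.henselianRing_of_isIntegral' (maximalIdeal H) S.A
  haveI : HenselianRing (S.A ⧸ (maximalIdeal H).map (algebraMap H S.A))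
      (J.map (Ideal.Quotient.mk ((maximalIdeal H).map (algebraMap H S.A)))) := by
    refine Hensel.henselianRing_of_forall_isNilpotent _ fun z hz => ?_
    rw [← mem_nilradical, nilradical_eq_sInf]
    refine Submodule.mem_sInf.2 fun (P : Ideal _) (hP : P.IsPrime) => ?_
    let P₀ := P.comap (Ideal.Quotient.mk ((maximalIdeal H).map (algebraMap H S.A)))
    have hPH : P₀.comap (algebraMap H S.A) = maximalIdeal H := by
      refine ((maximalIdeal.isMaximal H).eq_of_le (Ideal.IsPrime.ne_top inferInstance) fun c hc => ?_).symm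
      show Ideal.Quotient.mk _ (algebraMap H S.A c) ∈ P
      rw [Ideal.Quotient.eq_zero_iff_mem.2 (Ideal.mem_map_of_mem _ hc)]
      exact P.zero_mem
    obtain ⟨x, hx⟩ := hΩ.exists_point P₀ hPH
    have hJP : J.map (Ideal.Quotient.mk ((maximalIdeal H).map (algebraMap H S.A))) ≤ P :=
      Ideal.map_le_iff_le_comap.2 ((iInf_le _ (⟨P₀, x, hx⟩ : Idx)).trans le_rfl)
    exact hJP hz
  haveI : HenselianRing S.A J := Hensel.henselianRing_trans hIJ
  -- the value at the closed points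
  have hcop : Pairwise fun i j : Idx => IsCoprime i.1 j.1 := fun i j hij =>
    Ideal.isCoprime_iff_sup_eq.2 ((hmax i).coprime_of_ne (hmax j) (fun e => hij (Subtype.ext e)))
  let crt := Ideal.quotientInfRingEquivPiQuotient (fun i : Idx => i.1) hcop
  have hval : ∀ (i : Idx) (a' : S.A'), ∃ a : S.A, pt i.2.choose (S.f a) = pt i.2.choose a' := fun i a' =>
    hΩ.mem_range_of_formallyUnramified (pt i.2.choose) a'
  choose v hv using hval
  have hker : ∀ (i : Idx) (a b : S.A), pt i.2.choose (S.f a) = pt i.2.choose (S.f b) →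
      Ideal.Quotient.mk i.1 a = Ideal.Quotient.mk i.1 b := fun i a b h => by
    rw [Ideal.Quotient.eq]
    conv => lhs; rw [← i.2.choose_spec]
    rw [RingHom.mem_ker, ← hptf i.2.choose, map_sub, AlgHom.comp_apply, AlgHom.comp_apply, h, sub_self]
  let σi : (i : Idx) → S.A' →ₐ[S.A] (S.A ⧸ i.1) := fun i =>
    { toFun := fun a' => Ideal.Quotient.mk i.1 (v i a')
      map_one' := (hker i _ 1 (by rw [hv, map_one, map_one, map_one])).trans (map_one _)
      map_mul' := fun a b => (hker i _ (v i a * v i b) (by rw [hv, map_mul, map_mul, map_mul, hv, hv])).trans (map_mul _ _ _)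
      map_zero' := (hker i _ 0 (by rw [hv, map_zero, map_zero, map_zero])).trans (map_zero _)
      map_add' := fun a b => (hker i _ (v i a + v i b) (by rw [hv, map_add, map_add, map_add, hv, hv])).trans (map_add _ _ _)
      commutes' := fun a => hker i _ a (hv i _) }
  let σ₀ : S.A' →ₐ[S.A] S.A ⧸ J :=
    { crt.symm.toRingHom.comp (RingHom.pi fun i => (σi i).toRingHom) with
      commutes' := fun a => crt.injective (by
        show crt (crt.symm (fun i => σi i (algebraMap S.A S.A' a))) = _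
        rw [crt.apply_symm_apply]
        funext i
        rw [AlgHom.commutes]
        rfl) }
  obtain ⟨τ, hτ⟩ := Hensel.exists_etale_lift J σ₀
  obtain ⟨e, he, hτe, hmul⟩ := exists_idempotent_of_retraction τ
  refine ⟨e, he, τ.restrictScalars H, AlgHom.ext fun a => τ.commutes a, hτe, hmul, fun x => ?_⟩
  let i : Idx := ⟨RingHom.ker x, x, rfl⟩
  have hix : i.2.choose = x := hΩ.hom_ext _ _ fun a ha => by
    have h1 : a ∈ RingHom.ker i.2.choose := ha
    rw [i.2.choose_spec] at h1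
    exact h1
  convert hpt x using 1
  refine AlgHom.ext fun a' => ?_
  have h1 : Ideal.Quotient.mk i.1 (τ a') = Ideal.Quotient.mk i.1 (v i a') := by
    have h := congrArg (fun z => crt z i) (AlgHom.congr_fun hτ a')
    simp only [σ₀, AlgHom.comp_apply, Ideal.Quotient.mkₐ_eq_mk] at h
    rw [show crt (Ideal.Quotient.mk J (τ a')) i = Ideal.Quotient.mk i.1 (τ a') from rfl] at h
    exact h.trans (congrFun (crt.apply_symm_apply _) i)
  rw [Ideal.Quotient.eq] at h1
  have h2 : x (τ a' - v i a') = 0 := h1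
  rw [map_sub, sub_eq_zero] at h2
  show x (τ a') = pt x a'
  have h3 := hv i a'
  rw [hix] at h3
  exact (h2.trans (AlgHom.congr_fun (hptf x) _).symm).trans h3

/-- Every closed geometric point lies in an invariant direct factor isomorphic to the base. -/
theorem Setup.exists_idempotent (hΩ : IsClosedGeom H Ω) (x₀ : S.A' →ₐ[H] Ω) :
    ∃ e : S.A', IsIdempotentElem e ∧ S.s' e = S.t' e ∧ x₀ e = 1 ∧
      ∃ σ : S.A' →ₐ[H] S.A, σ.comp S.f = AlgHom.id H S.A ∧ σ e = 1 ∧ (∀ a, a * e = S.f (σ a) * e) ∧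
        ∀ a, S.s' a = S.t' a → S.s (σ a) = S.t (σ a) := by
  classical
  haveI := hΩ.algClosed
  obtain ⟨e, he, σ, hσf, hσe, hmul, horb⟩ := S.exists_section hΩ x₀
  have horbit : ∀ x' ∈ S.orbit x₀, ∀ y' ∈ S.orbit x₀, x'.comp S.f = y'.comp S.f → x' = y' := by
    rintro x' ⟨χ, h1, rfl⟩ y' ⟨ψ, h3, rfl⟩ h
    exact S.stab Ω χ ψ (h1.trans h3.symm) h
  have hone : ∀ x' : S.A' →ₐ[H] Ω, x' ∈ S.orbit x₀ ↔ x' e = 1 := by
    intro x'
    constructor
    · intro hx'
      have h := horbit x' hx' _ (horb (x'.comp S.f)) (by rw [AlgHom.comp_assoc, hσf, AlgHom.comp_id])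
      rw [h, AlgHom.comp_apply, hσe, map_one]
    · intro hx'
      convert horb (x'.comp S.f) using 1
      refine AlgHom.ext fun a => ?_
      have := congrArg x' (hmul a)
      rw [map_mul, map_mul, hx', mul_one, mul_one] at this
      exact this
  have hx₀ : x₀ ∈ S.orbit x₀ := by
    obtain ⟨χ, h1, h2⟩ := S.idPt Ω x₀
    exact ⟨χ, h1, h2⟩
  -- the components cut out by `s` and `t`
  have hts : ∀ χ : S.B' →ₐ[H] Ω, χ.comp S.s' ∈ S.orbit x₀ ↔ χ.comp S.t' ∈ S.orbit x₀ := by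
    intro χ
    constructor
    · rintro ⟨ψ, h1, h2⟩
      obtain ⟨ω, h3, h4⟩ := S.compPt Ω χ ψ h2
      exact ⟨ω, h3.trans h1, h4⟩
    · rintro ⟨ψ, h1, h2⟩
      obtain ⟨χ₁, h5, h6⟩ := S.invPt Ω χ
      obtain ⟨ω, h3, h4⟩ := S.compPt Ω χ₁ ψ (h2.trans h5.symm)
      exact ⟨ω, h3.trans h1, h4.trans h6⟩
  haveI := S.integral
  haveI : Algebra.IsIntegral H S.B := by
    let := S.s.toRingHom.toAlgebra
    haveI : IsScalarTower H S.A S.B := IsScalarTower.of_algebraMap_eq fun c => (S.s.commutes c).symm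
    haveI : Module.Finite S.A S.B := S.finite
    exact Algebra.IsIntegral.trans S.A
  have key : ∀ (s : S.A →ₐ[H] S.B) (s' t' : S.A' →ₐ[H] S.B'), IsPO s S.f s' S.fR →
      (∀ χ : S.B' →ₐ[H] Ω, χ.comp s' ∈ S.orbit x₀ → χ.comp t' ∈ S.orbit x₀) →
      ∃ ρ : S.B' →ₐ[H] S.B, ρ.comp S.fR = AlgHom.id H S.B ∧ ρ.comp s' = s.comp σ ∧
        s' e * t' e = s' e := by
    intro s s' t' hpo hinc
    obtain ⟨ρ, hρ1, hρ2⟩ := hpo.desc S.B (AlgHom.id H S.B) (s.comp σ) (by
      rw [AlgHom.id_comp, AlgHom.comp_assoc, hσf, AlgHom.comp_id])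
    refine ⟨ρ, hρ1, hρ2, ?_⟩
    have hu : ρ (s' e) = 1 := by
      show (ρ.comp s') e = 1
      rw [hρ2, AlgHom.comp_apply, hσe, map_one]
    have hw : ρ (t' e) = 1 := by
      have hidem : IsIdempotentElem (ρ (t' e)) := (he.map t').map ρ
      have hunit : IsUnit (ρ (t' e)) := by
        by_contra hn
        obtain ⟨M, hM, hwM⟩ := exists_max_ideal_of_mem_nonunits hn
        haveI := hM
        have hMH : M.comap (algebraMap H S.B) = maximalIdeal H := by
          haveI := Ideal.isMaximal_comap_of_isIntegral_of_isMaximal (R := H) M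
          exact eq_maximalIdeal inferInstance
        obtain ⟨β, hβ⟩ := hΩ.exists_point M hMH
        have h1 : (β.comp ρ).comp s' ∈ S.orbit x₀ := (hone _).2 (by
          show β (ρ (s' e)) = 1
          rw [hu, map_one])
        have h2 : β (ρ (t' e)) = 1 := (hone _).1 (hinc _ h1)
        rw [← hβ, RingHom.mem_ker, h2] at hwM
        exact one_ne_zero hwM
      exact hunit.mul_left_cancel (hidem.eq.trans (mul_one _).symm)
    let u := s' e
    let Q := S.B' ⧸ Ideal.span {1 - u}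
    let q : S.B' →ₐ[H] Q := Ideal.Quotient.mkₐ H _
    have hq1 : q u = 1 := by
      rw [← map_one q, eq_comm]
      exact Ideal.Quotient.eq.2 (Ideal.subset_span rfl)
    have hqρ : q.comp (S.fR.comp ρ) = q := by
      refine hpo.ext Q _ _ ?_ ?_
      · rw [AlgHom.comp_assoc, AlgHom.comp_assoc, hρ1, AlgHom.comp_id]
      · refine AlgHom.ext fun a => ?_
        show q (S.fR (ρ (s' a))) = q (s' a)
        rw [show ρ (s' a) = s (σ a) from AlgHom.congr_fun hρ2 a, show S.fR (s (σ a)) = s' (S.f (σ a)) from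
          AlgHom.congr_fun hpo.comm (σ a), ← mul_one (q (s' (S.f (σ a)))), ← mul_one (q (s' a)), ← hq1]
        simp only [u, ← map_mul, hmul a]
    have h : q (t' e) = 1 := by
      rw [← AlgHom.congr_fun hqρ (t' e)]
      show q (S.fR (ρ (t' e))) = 1
      rw [hw, map_one, map_one]
    obtain ⟨c, hc⟩ := Ideal.mem_span_singleton'.1 (Ideal.Quotient.eq.1 (h.trans (map_one q).symm))
    have hidem : u * u = u := (he.map s').eq
    linear_combination (-u) * hc - c * hidem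
  obtain ⟨ρ, hρ1, hρ2, hst⟩ := key S.s S.s' S.t' S.hs fun χ => (hts χ).1
  obtain ⟨ρt, hρt1, hρt2, hts'⟩ := key S.t S.t' S.s' S.ht fun χ => (hts χ).2
  have hinv : S.s' e = S.t' e := by rw [← hst, mul_comm, hts']
  refine ⟨e, he, hinv, (hone x₀).1 hx₀, σ, hσf, hσe, hmul, fun a ha => ?_⟩
  have h1 : ρ (S.s' a) = S.s (σ a) := AlgHom.congr_fun hρ2 a
  have h2 : ρ (S.t' a) = S.t (σ a) := by
    have e1 := congrArg ρ (congrArg S.t' (hmul a))
    rw [map_mul, map_mul, map_mul, map_mul, ← hinv, show ρ (S.s' e) = S.s (σ e) from AlgHom.congr_fun hρ2 e,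
      hσe, map_one, mul_one, mul_one] at e1
    rw [e1, show S.t' (S.f (σ a)) = S.fR (S.t (σ a)) from (AlgHom.congr_fun S.ht.comm (σ a)).symm]
    exact AlgHom.congr_fun hρ1 _
  rw [← h1, ← h2, ha]

end Groth.Agent.GrpdEtQuot
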