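import Groth.Agent.GrpdEtQuot.Cartesian
import Mathlib.RingTheory.Etale.Descent
import Mathlib.RingTheory.Kaehler.TensorProduct
import Mathlib.RingTheory.Smooth.Fiber
import Mathlib.RingTheory.Spectrum.Prime.Module
import Mathlib.RingTheory.FiniteStability
import Mathlib.LinearAlgebra.TensorProduct.RightExactness

/-!
# The map of invariant rings is étale
-/

set_option autoImplicit false
set_option synthInstance.maxHeartbeats 400000
set_option maxSynthPendingDepth 3

universe u

open TensorProduct IsLocalRing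

namespace Groth.Agent.GrpdEtQuot

/-- A finite module killed by a base change surjective on spectra is zero. -/
theorem subsingleton_of_tensor {K A K' M : Type u} [CommRing K] [CommRing A] [CommRing K'] [Algebra K A]
    [Algebra K K'] [AddCommGroup M] [Module K M] [Module K' M] [IsScalarTower K K' M] [Module.Finite K' M]
    (hsurj : Function.Surjective (PrimeSpectrum.comap (algebraMap K A))) (h : Subsingleton (A ⊗[K] M)) :
    Subsingleton M := by
  rw [← Module.support_eq_empty_iff (R := K')]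
  refine Set.eq_empty_iff_forall_notMem.2 fun q hq => ?_
  rw [Module.mem_support_iff_nontrivial_residueField_tensorProduct] at hq
  haveI := hq
  let L := q.asIdeal.ResidueField
  let V := L ⊗[K'] M
  -- the base change of the fibre vanishes
  let μ : M →ₗ[K] V := ((TensorProduct.mk K' L M) 1).restrictScalars K
  have h0 : ∀ (a : A) (v : V), (a ⊗ₜ[K] v : A ⊗[K] V) = 0 := fun a v => by
    induction v using TensorProduct.induction_on with
    | zero => simp
    | tmul l m =>
      let ml : V →ₗ[K] V := (LinearMap.lsmul L V l).restrictScalars K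
      have : (a ⊗ₜ[K] (l ⊗ₜ[K'] m) : A ⊗[K] V) = (ml ∘ₗ μ).lTensor A (a ⊗ₜ[K] m) := by
        simp [ml, μ, V, TensorProduct.smul_tmul']
      rw [this, Subsingleton.elim (a ⊗ₜ[K] m) 0, map_zero]
    | add v w hv hw => rw [tmul_add, hv, hw, add_zero]
  obtain ⟨P, hP⟩ := hsurj (PrimeSpectrum.comap (algebraMap K K') q)
  obtain ⟨r, hr, -, -⟩ := exists_prime_over A P.asIdeal q.asIdeal (congrArg PrimeSpectrum.asIdeal hP)
  obtain ⟨v, hv⟩ := exists_ne (0 : V)
  obtain ⟨δ, hδ⟩ := Module.Projective.exists_dual_ne_zero L hv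
  -- so the tensor product with the residue field vanishes
  let ψ : V →ₗ[K] L := δ.restrictScalars K
  have h1 : (1 : A) ⊗ₜ[K] (δ v) = (0 : A ⊗[K] L) := by
    rw [show (1 : A) ⊗ₜ[K] (δ v) = ψ.lTensor A ((1 : A) ⊗ₜ[K] v) from rfl, h0, map_zero]
  haveI : Nontrivial (A ⊗[K] K') := ⟨⟨0, 1, fun e => hr.ne_top ((Ideal.eq_top_iff_one _).2 (e ▸ r.zero_mem))⟩⟩
  obtain ⟨r', hr', -, -⟩ := exists_prime_over A P.asIdeal (⊥ : Ideal L) (by
    refine (congrArg PrimeSpectrum.asIdeal hP).trans ?_
    ext c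
    show algebraMap K K' c ∈ q.asIdeal ↔ algebraMap K L c ∈ (⊥ : Ideal L)
    rw [Ideal.mem_bot, IsScalarTower.algebraMap_apply K K' L, Ideal.algebraMap_residueField_eq_zero])
  refine hr'.ne_top ((Ideal.eq_top_iff_one _).2 ?_)
  have h2 : (1 : A ⊗[K] L) = ((1 : A) ⊗ₜ[K] (δ v)) * ((1 : A) ⊗ₜ[K] (δ v)⁻¹) := by
    rw [Algebra.TensorProduct.tmul_mul_tmul, mul_one, mul_inv_cancel₀ hδ]
    rfl
  rw [h2, h1, zero_mul]
  exact r'.zero_mem

variable {K : Type u} [CommRing K] {S : Setup K} (hS : S.IsQuot)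

include hS in
theorem Setup.IsQuot.comap_surjective : Function.Surjective (PrimeSpectrum.comap (algebraMap K S.A)) := by
  haveI := S.integral
  exact (algebraMap_isIntegral_iff.2 ‹_›).comap_surjective hS.injective

include hS in
theorem Setup.IsQuot.formallyUnramified_of_equiv {C : Type u} [CommRing C] [Algebra K C] [Algebra.FiniteType K C]
    (Φ : S.A ⊗[K] C →ₐ[K] S.A') (hΦ : Function.Bijective Φ) (hΦf : ∀ a, Φ (a ⊗ₜ 1) = S.f a) :
    Algebra.FormallyUnramified K C := by
  let := S.f.toRingHom.toAlgebra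
  haveI : Algebra.Etale S.A S.A' := S.etale
  let e : S.A' ≃ₐ[S.A] S.A ⊗[K] C := (AlgEquiv.ofBijective
    ({ Φ.toRingHom with commutes' := fun a => hΦf a } : S.A ⊗[K] C →ₐ[S.A] S.A') hΦ).symm
  haveI : Algebra.FormallyUnramified S.A (S.A ⊗[K] C) := Algebra.FormallyUnramified.of_equiv e
  let _ : Algebra C (S.A ⊗[K] C) := Algebra.TensorProduct.rightAlgebra
  have : Subsingleton (S.A ⊗[K] Ω[C⁄K]) :=
    (KaehlerDifferential.tensorKaehlerEquivBase K S.A C (S.A ⊗[K] C)).subsingleton
  exact ⟨subsingleton_of_tensor (K' := C) hS.comap_surjective this⟩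

include hS in
theorem Setup.IsQuot.finiteType_inv' : Algebra.FiniteType K S.inv' := by
  classical
  let := S.f.toRingHom.toAlgebra
  haveI : Algebra.Etale S.A S.A' := S.etale
  obtain ⟨gen, hgen⟩ := (Algebra.FiniteType.out : (⊤ : Subalgebra S.A S.A').FG)
  choose z hz using fun y : gen => hS.bijective_cmp.2 y.1
  choose F hF using fun y : gen => TensorProduct.exists_finset (z y)
  let T : Finset S.inv' := (Finset.univ : Finset gen).biUnion fun y => (F y).image Prod.snd
  let K₀ : Subalgebra K S.inv' := Algebra.adjoin K (T : Set S.inv')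
  haveI : Algebra.FiniteType K K₀ := (Subalgebra.fg_iff_finiteType K₀).1 ⟨T, rfl⟩
  suffices hK : ∀ y : S.inv', y ∈ K₀ by
    exact Algebra.FiniteType.of_surjective K₀.val fun y => ⟨⟨y, hK y⟩, rfl⟩
  let ρ₀ : K₀ →ₐ[K] S.A' := S.inv'.val.comp K₀.val
  let Φ₀ : S.A ⊗[K] K₀ →ₐ[K] S.A' := Algebra.TensorProduct.lift S.f ρ₀ fun _ _ => Commute.all _ _
  let rg : Subalgebra S.A S.A' :=
    { Φ₀.range.toSubsemiring with
      algebraMap_mem' := fun a => ⟨a ⊗ₜ 1, by simp [Φ₀, ρ₀]; rfl⟩ }
  have hrg : rg = ⊤ := by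
    refine eq_top_iff.2 (hgen ▸ Algebra.adjoin_le fun y hy => ?_)
    have e := (congrArg S.cmp (hF ⟨y, hy⟩)).symm.trans (hz ⟨y, hy⟩)
    rw [map_sum] at e
    rw [← show _ = y from e]
    refine rg.toSubsemiring.sum_mem fun p hp => ⟨p.1 ⊗ₜ ⟨p.2, Algebra.subset_adjoin ?_⟩, ?_⟩
    · exact Finset.mem_biUnion.2 ⟨⟨y, hy⟩, Finset.mem_univ _, Finset.mem_image.2 ⟨p, hp, rfl⟩⟩
    · simp [Φ₀, ρ₀, Setup.cmp]
  have hΦ₀ : Function.Surjective Φ₀ := fun y => (hrg.symm ▸ Algebra.mem_top : y ∈ rg)
  -- the invariants are integral over the subalgebra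
  have hint₀ : K₀.val.toRingHom.IsIntegral := by
    intro c
    have h1 : RingHom.IsIntegralElem ρ₀.toRingHom c.1 := by
      obtain ⟨w, hw⟩ := hΦ₀ c.1
      rw [← hw]
      clear hw
      induction w using TensorProduct.induction_on with
      | zero => rw [map_zero]; exact ρ₀.toRingHom.isIntegralElem_zero
      | add a b ha hb => rw [map_add]; exact ha.add _ hb
      | tmul a k =>
        rw [Algebra.TensorProduct.lift_tmul]
        refine RingHom.IsIntegralElem.mul _ ?_ (ρ₀.toRingHom.isIntegralElem_map)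
        obtain ⟨p, hp, hpa⟩ := S.integral.isIntegral a
        refine ⟨p.map (algebraMap K K₀), hp.map _, ?_⟩
        rw [Polynomial.eval₂_map, show ρ₀.toRingHom.comp (algebraMap K K₀) = S.f.toRingHom.comp (algebraMap K S.A) from
          ρ₀.comp_algebraMap.trans S.f.comp_algebraMap.symm]
        exact (Polynomial.hom_eval₂ p (algebraMap K S.A) S.f.toRingHom a).symm.trans
          ((congrArg S.f hpa).trans (map_zero _))
    obtain ⟨p, hp, hpc⟩ := h1
    refine ⟨p, hp, Subtype.val_injective ?_⟩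
    exact (Polynomial.hom_eval₂ p K₀.val.toRingHom S.inv'.val.toRingHom c).trans hpc
  intro y
  let J : Ideal K₀ :=
    { carrier := {c | (c : S.inv') * y ∈ K₀}
      add_mem' := fun {a b} ha hb => by
        show ((a : S.inv') + b) * y ∈ K₀
        rw [add_mul]; exact K₀.add_mem ha hb
      zero_mem' := by
        show ((0 : K₀) : S.inv') * y ∈ K₀
        rw [ZeroMemClass.coe_zero, zero_mul]; exact K₀.zero_mem
      smul_mem' := fun c m hm => by
        show ((c : S.inv') * m) * y ∈ K₀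
        rw [mul_assoc]; exact K₀.mul_mem c.2 hm }
  suffices hJ : J = ⊤ by
    have h := (show (1 : K₀) ∈ J from hJ ▸ Submodule.mem_top)
    simpa [J] using h
  by_contra hne
  obtain ⟨P, hP, hle⟩ := J.exists_le_maximal hne
  haveI := hP
  obtain ⟨⟨q', hq'⟩, hq'P⟩ := hint₀.comap_surjective Subtype.val_injective ⟨P, inferInstance⟩
  obtain ⟨R, i1, i2, i3, h1, h3, h2⟩ := hS.exists_base q'
  haveI := h1
  haveI := h3
  have hqP : q'.comap K₀.val.toRingHom = P := congrArg PrimeSpectrum.asIdeal hq'P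
  obtain ⟨Qh, hQh, hQhR, hQhP⟩ := exists_prime_over R (maximalIdeal R) P (by
    rw [h2, ← hqP, Ideal.comap_comap]
    rfl)
  haveI := hQh
  let i := tR R K₀.val
  have hi : Function.Injective i := tR_injective R K₀.val Subtype.val_injective
  have hiint : i.toRingHom.IsIntegral :=
    isStableUnderBaseChange_tR R RingHom.isIntegral_isStableUnderBaseChange K₀.val hint₀
  obtain ⟨⟨Q', hQ'⟩, hQ'Q⟩ := hiint.comap_surjective hi ⟨Qh, inferInstance⟩
  have hQ'Qh : Q'.comap i.toRingHom = Qh := congrArg PrimeSpectrum.asIdeal hQ'Q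
  have overR : ∀ Q'' : Ideal (R ⊗[K] S.inv'), Q''.comap i.toRingHom = Qh →
      Q''.comap (algebraMap R (R ⊗[K] S.inv')) = maximalIdeal R := fun Q'' h => by
    rw [← hQhR, ← h, Ideal.comap_comap]
    exact congrArg (Ideal.comap · Q'') i.comp_algebraMap.symm
  obtain ⟨e, π, σ, he, hidem, hπe, hmul, hσf, hσe, hmulσ, hσπ⟩ := hS.exists_factor Q' (overR Q' hQ'Qh)
  -- the factor is cut out over the subalgebra
  obtain ⟨g, hgQ, hg⟩ : ∃ g : R ⊗[K] K₀, g ∉ Qh ∧ i g ∈ Ideal.span {e} := by
    by_contra hno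
    push Not at hno
    let := i.toRingHom.toAlgebra
    haveI : Algebra.IsIntegral (R ⊗[K] K₀) (R ⊗[K] S.inv') := algebraMap_isIntegral_iff.1 hiint
    obtain ⟨Q'', hle'', hQ'', hcomap⟩ := Ideal.exists_ideal_over_prime_of_isIntegral Qh (Ideal.span {e})
      (fun c hc => by_contra fun hn => hno c hn hc)
    haveI := hQ''
    have hec : Q''.comap i.toRingHom = Qh := hcomap
    obtain ⟨e'', π'', σ'', he'', -, -, hmul'', hσf'', -, -, hσπ''⟩ := hS.exists_factor Q'' (overR Q'' hec)
    have hker : ∀ (Q₀ : Ideal (R ⊗[K] S.inv')) [Q₀.IsPrime] (e₀ : R ⊗[K] S.inv') (π₀ : R ⊗[K] S.inv' →ₐ[R] R),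
        Q₀.comap (algebraMap R (R ⊗[K] S.inv')) = maximalIdeal R → e₀ ∉ Q₀ →
        (∀ c, c * e₀ = algebraMap R (R ⊗[K] S.inv') (π₀ c) * e₀) → ∀ c, c ∈ Q₀ ↔ π₀ c ∈ maximalIdeal R := by
      intro Q₀ _ e₀ π₀ hR he₀ hm c
      rw [← hR, Ideal.mem_comap]
      constructor
      · intro hc
        refine (Ideal.IsPrime.mem_or_mem inferInstance ?_).resolve_right he₀
        rw [← hm c]; exact Q₀.mul_mem_right _ hc
      · intro hc
        refine (Ideal.IsPrime.mem_or_mem inferInstance ?_).resolve_right he₀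
        rw [hm c]; exact Q₀.mul_mem_right _ hc
    haveI := hQ'
    have k' := hker Q' e π (overR Q' hQ'Qh) he hmul
    have k'' := hker Q'' e'' π'' (overR Q'' hec) he'' hmul''
    -- a point of `A` over the closed point
    obtain ⟨PA, hPA⟩ := hS.comap_surjective (PrimeSpectrum.comap (algebraMap K R) ⟨maximalIdeal R, inferInstance⟩)
    obtain ⟨rA, hrA, hrAR, -⟩ := exists_prime_over R (maximalIdeal R) PA.asIdeal
      (congrArg PrimeSpectrum.asIdeal hPA).symm
    haveI := hrA
    let qA := Ideal.Quotient.mkₐ R rA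
    let y₁ := qA.comp σ
    let y₂ := qA.comp σ''
    have hm0 : ∀ r ∈ maximalIdeal R, qA (algebraMap R (R ⊗[K] S.A) r) = 0 := fun r hr =>
      Ideal.Quotient.eq_zero_iff_mem.2 (by rw [← Ideal.mem_comap, hrAR]; exact hr)
    have hagree : ∀ c : R ⊗[K] K₀, y₁ (tR R S.inv'.val (i c)) = y₂ (tR R S.inv'.val (i c)) := by
      intro c
      show qA (σ _) = qA (σ'' _)
      rw [hσπ, hσπ'', ← sub_eq_zero, ← map_sub, ← map_sub (algebraMap R (R ⊗[K] S.A))]
      refine hm0 _ ?_
      have h5 : c - algebraMap R (R ⊗[K] K₀) (π (i c)) ∈ Qh := by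
        rw [← hQ'Qh]
        refine (k' _).2 ?_
        show π (i (c - algebraMap R (R ⊗[K] K₀) (π (i c)))) ∈ _
        rw [map_sub i, i.commutes, map_sub π, π.commutes, Algebra.algebraMap_self, RingHom.id_apply, sub_self]
        exact zero_mem _
      rw [← hec] at h5
      have h6 : π'' (i (c - algebraMap R (R ⊗[K] K₀) (π (i c)))) ∈ maximalIdeal R := (k'' _).1 h5
      rw [map_sub i, i.commutes, map_sub π'', π''.commutes, Algebra.algebraMap_self, RingHom.id_apply,
        ← neg_sub] at h6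
      exact (Submodule.neg_mem_iff _).1 h6
    have hy : y₁ = y₂ := by
      refine res_injective R (AlgHom.ext fun a' => ?_)
      obtain ⟨w, rfl⟩ := hΦ₀ a'
      induction w using TensorProduct.induction_on with
      | zero => rw [map_zero, map_zero, map_zero]
      | add a b ha hb => rw [map_add, map_add, map_add, ha, hb]
      | tmul a k =>
        rw [Algebra.TensorProduct.lift_tmul, map_mul, map_mul]
        congr 1
        · show y₁ ((1 : R) ⊗ₜ S.f a) = y₂ ((1 : R) ⊗ₜ S.f a)
          have e1 := AlgHom.congr_fun hσf ((1 : R) ⊗ₜ a)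
          have e2 := AlgHom.congr_fun hσf'' ((1 : R) ⊗ₜ a)
          simp only [tR, AlgHom.comp_apply, Algebra.TensorProduct.map_tmul, AlgHom.id_apply] at e1 e2
          show qA (σ _) = qA (σ'' _)
          rw [e1, e2]
        · have h := hagree ((1 : R) ⊗ₜ k)
          simp only [i, tR, Algebra.TensorProduct.map_tmul, AlgHom.id_apply] at h
          exact h
    have heq := AlgHom.congr_fun hy (tR R S.inv'.val e)
    simp only [y₁, y₂, AlgHom.comp_apply, hσe, hσπ'', map_one] at heq
    rw [hm0 _ ((k'' e).1 (hle'' (Ideal.mem_span_singleton_self e)))] at heq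
    exact hrA.ne_top ((Ideal.eq_top_iff_one _).2 (Ideal.Quotient.eq_zero_iff_mem.1 heq))
  have hge : i g * e = i g := by
    obtain ⟨h, hh⟩ := Ideal.mem_span_singleton'.1 hg
    rw [← hh, mul_assoc, hidem.eq]
  let L : Submodule K S.inv' := Subalgebra.toSubmodule K₀
  refine hgQ (lTensor_mem_of_exact (L.mkQ ∘ₗ LinearMap.mulRight K y ∘ₗ K₀.val.toLinearMap) J
    (fun m hm => (Submodule.Quotient.mk_eq_zero L).1 hm) g ?_ Qh ((Ideal.map_mono hle).trans ?_))
  · rw [LinearMap.lTensor_comp, LinearMap.lTensor_comp, LinearMap.comp_apply, LinearMap.comp_apply,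
      lTensor_toLinearMap, lTensor_mul_right, ← hge, mul_right_comm, mul_assoc, hmul ((1 : R) ⊗ₜ y),
      ← i.commutes, mul_left_comm, hge, ← map_mul i, ← lTensor_toLinearMap, ← LinearMap.comp_apply,
      ← LinearMap.lTensor_comp, show L.mkQ ∘ₗ K₀.val.toLinearMap = 0 from LinearMap.ext fun x =>
        (Submodule.Quotient.mk_eq_zero L).2 x.2, LinearMap.lTensor_zero, LinearMap.zero_apply]
  · rw [Ideal.map_le_iff_le_comap]
    exact hQhP.ge

include hS in
theorem Setup.IsQuot.finitePresentation_inv' : Algebra.FinitePresentation K S.inv' ∧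
    Algebra.FormallyUnramified K S.inv' := by
  classical
  let := S.f.toRingHom.toAlgebra
  haveI : Algebra.Etale S.A S.A' := S.etale
  haveI := hS.finiteType_inv'
  obtain ⟨n, h, hh⟩ := Algebra.FiniteType.iff_quotient_mvPolynomial''.1 ‹Algebra.FiniteType K S.inv'›
  let P := MvPolynomial (Fin n) K
  let Φ : S.A ⊗[K] P →ₐ[S.A] S.A' := Algebra.TensorProduct.lift (Algebra.ofId S.A S.A')
    (S.inv'.val.comp h) fun _ _ => Commute.all _ _
  let mh : S.A ⊗[K] P →ₐ[K] S.A ⊗[K] S.inv' := Algebra.TensorProduct.map (AlgHom.id K S.A) h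
  have hΦe : ∀ w, Φ w = S.cmp (mh w) := fun w => by
    induction w using TensorProduct.induction_on with
    | zero => simp
    | add a b ha hb => rw [map_add, map_add, map_add, ha, hb]
    | tmul a p => simp [Φ, mh, Setup.cmp, Algebra.ofId_apply, RingHom.algebraMap_toAlgebra]
  have hΦs : Function.Surjective Φ := fun y => by
    obtain ⟨z, rfl⟩ := hS.bijective_cmp.2 y
    obtain ⟨w, rfl⟩ := Algebra.TensorProduct.map_surjective (f := AlgHom.id K S.A) h (fun x => ⟨x, rfl⟩) hh z
    exact ⟨w, hΦe w⟩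
  have hker : RingHom.ker Φ = (RingHom.ker h).map
      (Algebra.TensorProduct.includeRight (R := K) (A := S.A) (B := P)).toRingHom := by
    have e : RingHom.ker Φ = RingHom.ker mh := by
      ext w
      rw [RingHom.mem_ker, RingHom.mem_ker, hΦe, map_eq_zero_iff _ hS.bijective_cmp.1]
    rw [e]
    exact Algebra.TensorProduct.lTensor_ker h hh
  obtain ⟨W, hW⟩ := Algebra.FinitePresentation.ker_fG_of_surjective Φ hΦs
  -- finitely many relations
  obtain ⟨J₀, hJ₀fg, hJ₀le, hJ₀⟩ : ∃ J₀ : Ideal P, J₀.FG ∧ J₀ ≤ RingHom.ker h ∧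
      RingHom.ker Φ ≤ J₀.map (Algebra.TensorProduct.includeRight (R := K) (A := S.A) (B := P)).toRingHom := by
    have hw : ∀ w : W, ∃ J₀ : Ideal P, J₀.FG ∧ J₀ ≤ RingHom.ker h ∧
        (w : S.A ⊗[K] P) ∈ J₀.map (Algebra.TensorProduct.includeRight (R := K) (A := S.A) (B := P)).toRingHom := by
      intro w
      have hwk : (w : S.A ⊗[K] P) ∈ Ideal.span ((Algebra.TensorProduct.includeRight (R := K) (A := S.A)
          (B := P)).toRingHom '' (RingHom.ker h : Set P)) := by
        have : (w : S.A ⊗[K] P) ∈ RingHom.ker Φ := hW ▸ Submodule.subset_span w.2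
        rwa [hker] at this
      obtain ⟨s, hs, hsw⟩ := Submodule.mem_span_finite_of_mem_span hwk
      obtain ⟨s', hs', rfl⟩ := Finset.subset_set_image_iff.1 hs
      exact ⟨Ideal.span (s' : Set P), ⟨s', rfl⟩, Ideal.span_le.2 hs', by
        rw [Ideal.map_span]
        simpa [Finset.coe_image] using hsw⟩
    choose J hJ1 hJ2 hJ3 using hw
    refine ⟨⨆ w, J w, Submodule.fg_iSup _ hJ1, iSup_le hJ2, ?_⟩
    refine hW.symm.trans_le ?_
    refine Submodule.span_le.2 fun w hw => ?_
    exact Ideal.map_mono (le_iSup J ⟨w, hw⟩) (hJ3 ⟨w, hw⟩)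
  let C := P ⧸ J₀
  let θ : C →ₐ[K] S.inv' := Ideal.Quotient.liftₐ J₀ h fun p hp => hJ₀le hp
  haveI : Algebra.FinitePresentation K C := Algebra.FinitePresentation.quotient hJ₀fg
  let Ψ : S.A ⊗[K] C →ₐ[K] S.A' := S.cmp.comp (Algebra.TensorProduct.map (AlgHom.id K S.A) θ)
  let q : S.A ⊗[K] P →ₐ[K] S.A ⊗[K] C := Algebra.TensorProduct.map (AlgHom.id K S.A) (Ideal.Quotient.mkₐ K J₀)
  have hq : Function.Surjective q :=
    Algebra.TensorProduct.map_surjective (f := AlgHom.id K S.A) _ (fun x => ⟨x, rfl⟩) Ideal.Quotient.mk_surjective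
  have hqΨ : ∀ w, Ψ (q w) = Φ w := fun w => by
    rw [hΦe]
    show S.cmp (Algebra.TensorProduct.map (AlgHom.id K S.A) θ (q w)) = _
    congr 1
    induction w using TensorProduct.induction_on with
    | zero => simp
    | add a b ha hb => rw [map_add, map_add, map_add, ha, hb]
    | tmul a p => simp [q, mh, θ]; rfl
  have hq0 : ∀ w ∈ J₀.map (Algebra.TensorProduct.includeRight (R := K) (A := S.A) (B := P)).toRingHom, q w = 0 := by
    intro w hw
    refine (Ideal.map_le_iff_le_comap.2 ?_ : _ ≤ RingHom.ker q) hw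
    intro p hp
    show q ((1 : S.A) ⊗ₜ p) = 0
    rw [show q ((1 : S.A) ⊗ₜ p) = (1 : S.A) ⊗ₜ (Ideal.Quotient.mk J₀ p : C) from rfl,
      Ideal.Quotient.eq_zero_iff_mem.2 hp, tmul_zero]
  have hΨ : Function.Bijective Ψ := by
    refine ⟨(injective_iff_map_eq_zero Ψ).2 fun w hw => ?_, fun y => ?_⟩
    · obtain ⟨v, rfl⟩ := hq w
      exact hq0 v (hJ₀ ((hqΨ v).symm.trans hw))
    · obtain ⟨v, rfl⟩ := hΦs y
      exact ⟨q v, hqΨ v⟩
  haveI hCu : Algebra.FormallyUnramified K C := hS.formallyUnramified_of_equiv Ψ hΨ fun a => by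
    simp [Ψ, θ, Setup.cmp]
  have hθs : Function.Surjective θ := fun y => by
    obtain ⟨p, rfl⟩ := hh y
    exact ⟨Ideal.Quotient.mk J₀ p, rfl⟩
  have hθi : Function.Injective θ := by
    rw [injective_iff_map_eq_zero]
    intro z hz
    let J : Ideal C := Submodule.annihilator (C ∙ z)
    suffices hJ : J = ⊤ by
      have h1 : (1 : C) ∈ J := hJ ▸ Submodule.mem_top
      simpa using (Submodule.mem_annihilator_span_singleton _ _).1 h1
    by_contra hne
    obtain ⟨Q, hQ, hle⟩ := J.exists_le_maximal hne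
    haveI := hQ
    -- the prime comes from the invariants
    have hkerQ : RingHom.ker θ.toRingHom ≤ Q := by
      intro x hx
      obtain ⟨PA, hPA⟩ := hS.comap_surjective ⟨Q.comap (algebraMap K C), inferInstance⟩
      obtain ⟨r, hr, -, hrQ⟩ := exists_prime_over S.A PA.asIdeal Q (congrArg PrimeSpectrum.asIdeal hPA)
      rw [← hrQ]
      show (1 : S.A) ⊗ₜ x ∈ r
      have : (1 : S.A) ⊗ₜ[K] x = 0 := hΨ.1 (by
        have h1 : θ x = 0 := hx
        simp [Ψ, h1])
      rw [this]
      exact r.zero_mem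
    let q' := Q.map θ.toRingHom
    haveI : q'.IsPrime := Ideal.map_isPrime_of_surjective hθs hkerQ
    have hq'Q : q'.comap θ.toRingHom = Q := by
      rw [Ideal.comap_map_of_surjective θ.toRingHom hθs, sup_eq_left]
      exact hkerQ
    obtain ⟨R, i1, i2, i3, h1, h3, h2⟩ := hS.exists_base q'
    haveI := h1
    haveI := h3
    obtain ⟨Q', hQ', hQ'R, hQ'q⟩ := exists_prime_over R (maximalIdeal R) q' (by rw [h2])
    haveI := hQ'
    obtain ⟨e, π, σ, he, hidem, hπe, hmul, -⟩ := hS.exists_factor Q' hQ'R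
    let ρ := π.comp (tR R θ)
    obtain ⟨ι, hιidem, hρι, hιmul⟩ := exists_idempotent_of_retraction ρ
    refine (?_ : tR R θ ι ∉ Q') ?_
    · intro hmem
      have h4 := Q'.mul_mem_right e hmem
      rw [hmul, show π (tR R θ ι) = 1 from hρι, map_one, one_mul] at h4
      exact he h4
    · show ι ∈ Q'.comap (tR R θ).toRingHom
      refine lTensor_mem_of_exact (LinearMap.mulRight K z) J
        (fun m hm => (Submodule.mem_annihilator_span_singleton _ _).2 hm) ι ?_ _ ((Ideal.map_mono hle).trans ?_)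
      · rw [lTensor_mul_right, mul_comm, hιmul,
          show ρ ((1 : R) ⊗ₜ z) = 0 from by simp [ρ, tR, hz], map_zero, zero_mul]
      · rw [Ideal.map_le_iff_le_comap]
        intro x hx
        show tR R θ ((1 : R) ⊗ₜ x) ∈ Q'
        have : θ x ∈ q' := Ideal.mem_map_of_mem _ hx
        rw [← hQ'q] at this
        simpa [tR] using this
  let eC : C ≃ₐ[K] S.inv' := AlgEquiv.ofBijective θ ⟨hθi, hθs⟩
  exact ⟨Algebra.FinitePresentation.equiv eC, Algebra.FormallyUnramified.of_equiv eC⟩

include hS in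
theorem Setup.IsQuot.flat_inv' : Module.Flat K S.inv' := by
  rw [Module.Flat.iff_lTensor_injective']
  intro I
  rw [injective_iff_map_eq_zero]
  intro z hz
  let J : Ideal S.inv' := Submodule.annihilator (S.inv' ∙ z)
  suffices hJ : J = ⊤ by
    have h1 : (1 : S.inv') ∈ J := hJ ▸ Submodule.mem_top
    simpa using (Submodule.mem_annihilator_span_singleton _ _).1 h1
  by_contra hne
  obtain ⟨q', hq', hle⟩ := J.exists_le_maximal hne
  haveI := hq'
  obtain ⟨R, i1, i2, i3, h1, h3, h2⟩ := hS.exists_base q'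
  haveI := h1
  haveI := h3
  obtain ⟨Q', hQ', hQ'R, hQ'q⟩ := exists_prime_over R (maximalIdeal R) q' (by rw [h2])
  haveI := hQ'
  obtain ⟨e, π, σ, he, hidem, hπe, hmul, -⟩ := hS.exists_factor Q' hQ'R
  let ν : S.inv' →ₗ[K] S.inv' ⊗[K] I := (LinearMap.toSpanSingleton S.inv' _ z).restrictScalars K
  refine he (lTensor_mem_of_exact ν J (fun m hm => (Submodule.mem_annihilator_span_singleton _ _).2 hm) e ?_ Q'
    ((Ideal.map_mono hle).trans (Ideal.map_le_iff_le_comap.2 hQ'q.ge)))
  -- the element transported to the base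
  let φ : S.inv' →ₗ[K] R := (π.toLinearMap.restrictScalars K) ∘ₗ
    (Algebra.TensorProduct.includeRight (R := K) (A := R) (B := S.inv')).toLinearMap
  have hu : φ.rTensor I z = 0 := by
    refine Module.Flat.iff_lTensor_injective'.1 h1 I ?_
    rw [map_zero, ← LinearMap.comp_apply, LinearMap.lTensor_comp_rTensor, ← LinearMap.rTensor_comp_lTensor,
      LinearMap.comp_apply, hz, map_zero]
  let L : R →ₗ[K] R ⊗[K] S.inv' :=
    LinearMap.mulRight K e ∘ₗ (Algebra.TensorProduct.includeLeft : R →ₐ[K] R ⊗[K] S.inv').toLinearMap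
  have key : ∀ w : S.inv' ⊗[K] I, (TensorProduct.assoc K R S.inv' I).symm
      (((LinearMap.toSpanSingleton S.inv' _ w).restrictScalars K).lTensor R e) = L.rTensor I (φ.rTensor I w) := by
    intro w
    induction w using TensorProduct.induction_on with
    | zero => simp
    | add a b ha hb =>
      rw [map_add, map_add, ← ha, ← hb, ← map_add, ← LinearMap.add_apply, ← LinearMap.lTensor_add]
      congr 2
      refine congrArg _ (LinearMap.ext fun c => ?_)
      simp [smul_add]
    | tmul c a =>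
      rw [LinearMap.rTensor_tmul, LinearMap.rTensor_tmul]
      have e1 : ((LinearMap.toSpanSingleton S.inv' _ (c ⊗ₜ[K] a)).restrictScalars K) =
          ((TensorProduct.mk K S.inv' I).flip a) ∘ₗ LinearMap.mulRight K c :=
        LinearMap.ext fun x => by simp [TensorProduct.smul_tmul']
      rw [e1, LinearMap.lTensor_comp, LinearMap.comp_apply, lTensor_mul_right, mul_comm, hmul]
      show _ = ((φ c) ⊗ₜ[K] (1 : S.inv') * e) ⊗ₜ[K] a
      rw [show algebraMap R (R ⊗[K] S.inv') (π ((1 : R) ⊗ₜ c)) * e = (φ c) ⊗ₜ[K] (1 : S.inv') * e from rfl]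
      generalize (φ c) ⊗ₜ[K] (1 : S.inv') * e = v
      induction v using TensorProduct.induction_on with
      | zero => simp
      | tmul r x => simp
      | add p q hp hq => rw [map_add, map_add, hp, hq, add_tmul]
  have := key z
  rw [hu, map_zero] at this
  exact (TensorProduct.assoc K R S.inv' I).symm.injective (this.trans (map_zero _).symm)

include hS in
/-- The map of invariants is étale. -/
theorem Setup.IsQuot.etale_inv' : Algebra.Etale K S.inv' := by
  obtain ⟨h1, h2⟩ := hS.finitePresentation_inv'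
  haveI := hS.flat_inv'
  exact Algebra.Etale.of_formallyUnramified_of_flat

end Groth.Agent.GrpdEtQuot
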