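import Groth.Agent.GrpdEtQuot.Bridge
import Groth.Agent.GrpdEtQuot.EtaleInv

/-!
# The map of invariant rings of an étale cartesian morphism is étale
-/

set_option autoImplicit false
set_option backward.isDefEq.respectTransparency false
set_option backward.isDefEq.respectTransparency.types false

universe u

open CategoryTheory CategoryTheory.Limits AlgebraicGeometry Grpd TensorProduct

namespace Groth.Agent.GrpdEtQuot

variable {S : Scheme.{u}} {G' G : GroupoidScheme S} (f : GroupoidScheme.Hom G' G)
  [IsAffine G.U] [IsAffine G.R] [IsAffine G'.U] [IsAffine G'.R]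
  [IsFinite G.s] [Flat G.s] [LocallyOfFinitePresentation G.s]
  [IsFinite G'.s] [Flat G'.s] [LocallyOfFinitePresentation G'.s]
  (hs : IsPullback f.fR G'.s G.s f.fU) (ht : IsPullback f.fR G'.t G.t f.fU)
  (hstab : ∃ g : G'.stabilizer ⟶ G.stabilizer, g ≫ pullback.fst G.j G.diag = pullback.fst G'.j G'.diag ≫ f.fR ∧
    IsPullback g G'.stabilizerToU G.stabilizerToU f.fU) [Etale f.fU]

include hs ht hstab in
theorem etale_invMap : (invMap f).Etale := by
  let T := setupOf f hs ht hstab
  letI : Algebra G.invariants G'.invariants := (invMap f).toAlgebra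
  let e : T.inv' ≃+* G'.invariants :=
    { toFun := fun c => ⟨c.1, c.2⟩
      invFun := fun c => ⟨c.1, c.2⟩
      left_inv := fun _ => rfl
      right_inv := fun _ => rfl
      map_mul' := fun _ _ => rfl
      map_add' := fun _ _ => rfl }
  let e' : T.inv' ≃ₐ[G.invariants] G'.invariants := AlgEquiv.ofRingEquiv (f := e) fun _ => Subtype.ext rfl
  haveI := (isQuot_setupOf f hs ht hstab).etale_inv'
  haveI : Algebra.Etale G.invariants G'.invariants := Algebra.Etale.of_equiv e'
  exact RingHom.etale_algebraMap.2 this

end Groth.Agent.GrpdEtQuot
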