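import Groth.Agent.GrpdEtQuot.BaseChange
import Mathlib.RingTheory.IntegralClosure.IsIntegralClosure.Basic

/-!
# The product decomposition of an étale cartesian morphism over the invariants
-/

set_option autoImplicit false

universe u

open TensorProduct IsLocalRing

namespace Groth.Agent.GrpdEtQuot

theorem isIntegral_quotient_of_isMaximal {H : Type u} [CommRing H] [IsLocalRing H] (A : Type u) {A' : Type u}
    [CommRing A] [CommRing A'] [Algebra H A] [Algebra A A'] [Algebra H A'] [IsScalarTower H A A']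
    [Algebra.IsIntegral H A] [Algebra.FiniteType A A'] (Q : Ideal A') [Q.IsMaximal]
    (hQ : Q.comap (algebraMap H A') = maximalIdeal H) : Algebra.IsIntegral H (A' ⧸ Q) := by
  let P := Q.comap (algebraMap A A')
  haveI : P.IsMaximal := by
    refine Ideal.isMaximal_of_isIntegral_of_isMaximal_comap (R := H) P ?_
    show ((Q.comap (algebraMap A A')).comap (algebraMap H A)).IsMaximal
    rw [Ideal.comap_comap, ← IsScalarTower.algebraMap_eq, hQ]
    exact maximalIdeal.isMaximal H
  let := Ideal.Quotient.field P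
  let := Ideal.Quotient.field Q
  let : Algebra (A ⧸ P) (A' ⧸ Q) := (Ideal.quotientMap Q (algebraMap A A') le_rfl).toAlgebra
  haveI : IsScalarTower A (A ⧸ P) (A' ⧸ Q) := IsScalarTower.of_algebraMap_eq fun _ => rfl
  haveI : Algebra.FiniteType (A ⧸ P) (A' ⧸ Q) := .of_restrictScalars_finiteType A _ _
  haveI : Module.Finite (A ⧸ P) (A' ⧸ Q) := finite_of_finite_type_of_isJacobsonRing _ _
  haveI : Module.Finite A (A' ⧸ Q) := Module.Finite.trans (A ⧸ P) _
  exact Algebra.IsIntegral.trans A

variable {K : Type u} [CommRing K] (S : Setup K)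

/-- The invariants upstairs. -/
noncomputable abbrev Setup.inv' : Subalgebra K S.A' := AlgHom.equalizer S.s' S.t'

/-- The hypotheses making `K` the ring of invariants. -/
structure Setup.IsQuot : Prop where
  injective : Function.Injective (algebraMap K S.A)
  invariant : ∀ a, S.s a = S.t a → a ∈ Set.range (algebraMap K S.A)
  integral' : Algebra.IsIntegral S.inv' S.A'

/-- The canonical map from the base change. -/
noncomputable abbrev Setup.cmp : S.A ⊗[K] S.inv' →ₐ[K] S.A' :=
  Algebra.TensorProduct.lift S.f S.inv'.val fun _ _ => Commute.all _ _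

variable {S} (hS : S.IsQuot) {R : Type u} [CommRing R] [Algebra K R]

include hS in
theorem Setup.IsQuot.bc_injective [Module.Flat K R] : Function.Injective (algebraMap R (R ⊗[K] S.A)) :=
  Algebra.TensorProduct.includeLeft_injective (S := R) hS.injective

include hS in
theorem Setup.IsQuot.bc_invariant [Module.Flat K R] (z : R ⊗[K] S.A) (h : tR R S.s z = tR R S.t z) :
    z ∈ Set.range (algebraMap R (R ⊗[K] S.A)) := by
  obtain ⟨w, rfl⟩ := exists_preimage_of_map_eq R S.s S.t z h
  clear h
  induction w using TensorProduct.induction_on with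
  | zero => exact ⟨0, by simp⟩
  | tmul r x =>
    obtain ⟨c, hc⟩ := hS.invariant x.1 x.2
    refine ⟨c • r, ?_⟩
    show (c • r) ⊗ₜ[K] (1 : S.A) = r ⊗ₜ[K] (x : S.A)
    rw [← hc, Algebra.algebraMap_eq_smul_one, tmul_smul, smul_tmul']
  | add a b ha hb =>
    obtain ⟨x, hx⟩ := ha
    obtain ⟨y, hy⟩ := hb
    exact ⟨x + y, by rw [map_add, map_add, hx, hy]⟩

include hS in
/-- Through each prime over the closed point passes a factor isomorphic to the base. -/
theorem Setup.IsQuot.exists_factor [Module.Flat K R] [HenselianLocalRing R] [IsSepClosed (ResidueField R)]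
    (Q' : Ideal (R ⊗[K] S.inv')) [Q'.IsPrime]
    (hQ' : Q'.comap (algebraMap R (R ⊗[K] S.inv')) = maximalIdeal R) :
    ∃ (e₀ : R ⊗[K] S.inv') (π : R ⊗[K] S.inv' →ₐ[R] R) (σ : R ⊗[K] S.A' →ₐ[R] R ⊗[K] S.A),
      e₀ ∉ Q' ∧ IsIdempotentElem e₀ ∧ π e₀ = 1 ∧ (∀ c, c * e₀ = algebraMap R (R ⊗[K] S.inv') (π c) * e₀) ∧
      σ.comp (tR R S.f) = AlgHom.id R (R ⊗[K] S.A) ∧ σ (tR R S.inv'.val e₀) = 1 ∧
      (∀ a, a * tR R S.inv'.val e₀ = tR R S.f (σ a) * tR R S.inv'.val e₀) ∧
      ∀ c, σ (tR R S.inv'.val c) = algebraMap R (R ⊗[K] S.A) (π c) := by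
  obtain ⟨Ω, _, _, hΩ⟩ := exists_isClosedGeom R
  let S' := S.bc R
  let j := tR R S.inv'.val
  have hj : Function.Injective j := tR_injective R S.inv'.val Subtype.val_injective
  have hjint : j.toRingHom.IsIntegral := isStableUnderBaseChange_tR R RingHom.isIntegral_isStableUnderBaseChange
    S.inv'.val hS.integral'.isIntegral
  obtain ⟨⟨Q, hQ⟩, hQj⟩ := hjint.comap_surjective (hj) ⟨Q', inferInstance⟩
  obtain ⟨Q1, hQ1, hle⟩ := Q.exists_le_maximal hQ.ne_top
  haveI := hQ1
  haveI := S'.integral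
  have hQR : maximalIdeal R ≤ Q1.comap (algebraMap R S'.A') := fun r hr => hle (by
    rw [← hQ'] at hr
    have h : algebraMap R (R ⊗[K] S.inv') r ∈ Q.comap j.toRingHom := by
      show algebraMap R (R ⊗[K] S.inv') r ∈ (PrimeSpectrum.comap j.toRingHom ⟨Q, hQ⟩).asIdeal
      rw [hQj]
      exact hr
    have h' : j (algebraMap R (R ⊗[K] S.inv') r) ∈ Q := h
    rwa [AlgHom.commutes] at h')
  have hQ1R : Q1.comap (algebraMap R S'.A') = maximalIdeal R :=
    ((maximalIdeal.isMaximal R).eq_of_le (Ideal.IsPrime.ne_top inferInstance) hQR).symm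
  haveI : Algebra.IsIntegral R (S'.A' ⧸ Q1) := by
    let := S'.f.toRingHom.toAlgebra
    haveI : IsScalarTower R S'.A S'.A' := IsScalarTower.of_algebraMap_eq fun c => (S'.f.commutes c).symm
    haveI : Algebra.Etale S'.A S'.A' := S'.etale
    exact isIntegral_quotient_of_isMaximal (A' := S'.A') S'.A Q1 hQ1R
  obtain ⟨x₀, hx₀⟩ := hΩ.exists_point (X := S'.A') Q1 hQ1R
  obtain ⟨e, he, hinv, hxe, σ, hσf, hσe, hmul, hσinv⟩ := S'.exists_idempotent hΩ x₀
  obtain ⟨e₀, he₀⟩ := exists_preimage_of_map_eq R S.s' S.t' e hinv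
  have hj' : ∀ c, S'.s' (j c) = S'.t' (j c) := fun c => by
    show tR R S.s' (tR R S.inv'.val c) = tR R S.t' (tR R S.inv'.val c)
    induction c using TensorProduct.induction_on with
    | zero => simp
    | tmul r x => simp only [tR, Algebra.TensorProduct.map_tmul, AlgHom.id_apply]; exact congrArg _ x.2
    | add a b ha hb => rw [map_add, map_add, map_add, ha, hb]
  choose π₀ hπ₀ using fun c => hS.bc_invariant _ (hσinv (j c) (hj' c))
  have hinjR := hS.bc_injective (R := R)
  let π : R ⊗[K] S.inv' →ₐ[R] R :=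
    { toFun := π₀
      map_one' := hinjR (by rw [hπ₀, map_one]; exact (congrArg σ (map_one j)).trans (map_one σ))
      map_mul' := fun a b => hinjR (by rw [hπ₀, map_mul (algebraMap R _), hπ₀, hπ₀]
                                       exact (congrArg σ (map_mul j a b)).trans (map_mul σ _ _))
      map_zero' := hinjR (by rw [hπ₀]; exact ((congrArg σ (map_zero j)).trans (map_zero σ)).trans (map_zero _).symm)
      map_add' := fun a b => hinjR (by rw [hπ₀, map_add (algebraMap R _), hπ₀, hπ₀]
                                       exact (congrArg σ (map_add j a b)).trans (map_add σ _ _))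
      commutes' := fun r => hinjR (by rw [hπ₀]; exact (congrArg σ (j.commutes r)).trans (σ.commutes r)) }
  have hπ : ∀ c, σ (j c) = algebraMap R (R ⊗[K] S.A) (π c) := fun c => (hπ₀ c).symm
  refine ⟨e₀, π, σ, fun h => ?_, hj (by rw [map_mul, he₀]; exact he.eq), ?_, fun c => ?_, hσf, he₀.symm ▸ hσe,
    he₀.symm ▸ hmul, hπ⟩
  · have h0 : e₀ ∈ (PrimeSpectrum.comap j.toRingHom ⟨Q, hQ⟩).asIdeal := by rw [hQj]; exact h
    have h1 : j e₀ ∈ Q1 := hle h0
    rw [← hx₀, RingHom.mem_ker, he₀, hxe] at h1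
    exact one_ne_zero h1
  · refine hinjR ((hπ e₀).symm.trans ?_)
    rw [he₀, map_one]
    exact hσe
  · refine hj ?_
    rw [map_mul, map_mul, he₀, AlgHom.commutes]
    refine (hmul (j c)).trans ?_
    rw [hπ c]
    exact congrArg (· * e) ((tR R S.f).commutes _)

include hS in
theorem Setup.IsQuot.exists_base (q' : Ideal S.inv') [q'.IsPrime] :
    ∃ (R : Type u) (_ : CommRing R) (_ : Algebra K R) (_ : HenselianLocalRing R), Module.Flat K R ∧
      IsSepClosed (ResidueField R) ∧
      (maximalIdeal R).comap (algebraMap K R) = q'.comap (algebraMap K S.inv') := by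
  obtain ⟨R, i1, i2, i3, h1, h2, h3⟩ := exists_strictHenz (q'.comap (algebraMap K S.inv'))
  exact ⟨R, i1, i2, i3, h1, h3, h2⟩

/-- If an annihilator-type kernel avoids no prime, the element dies. -/
theorem lTensor_mem_of_exact [Module.Flat K R] {M : Type u} [CommRing M] [Algebra K M] {N : Type u} [AddCommGroup N]
    [Module K N] (ν : M →ₗ[K] N) (J : Ideal M) (hJ : ∀ m, ν m = 0 → m ∈ J) (w : R ⊗[K] M) (hw : ν.lTensor R w = 0)
    (P : Ideal (R ⊗[K] M)) (hJP : J.map (Algebra.TensorProduct.includeRight (R := K) (A := R) (B := M)).toRingHom ≤ P) :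
    w ∈ P := by
  have hex : Function.Exact (LinearMap.ker ν).subtype ν := LinearMap.exact_subtype_ker_map ν
  obtain ⟨v, rfl⟩ := ((Module.Flat.lTensor_exact R hex) w).1 hw
  clear hw
  induction v using TensorProduct.induction_on with
  | zero => simp
  | tmul r x =>
    rw [LinearMap.lTensor_tmul]
    have : (r ⊗ₜ[K] (x : M)) = (r ⊗ₜ[K] (1 : M)) * Algebra.TensorProduct.includeRight (R := K) (A := R) (x : M) := by
      simp
    rw [Submodule.subtype_apply, this]
    exact P.mul_mem_left _ (hJP (Ideal.mem_map_of_mem _ (hJ _ x.2)))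
  | add a b ha hb =>
    rw [map_add]
    exact P.add_mem ha hb

end Groth.Agent.GrpdEtQuot
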